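import Cfsg.Agent.Co1Comp.NoFour

/-!
The central involution of a standard subgroup isomorphic to the automorphism group of the lattice is isolated.
-/

set_option autoImplicit false
set_option maxRecDepth 100000
set_option linter.style.haveILetI false
set_option linter.unusedSectionVars false

namespace CfsgLib.Co1Comp

open Cfsg CfsgLib CfsgLib.Leech Subgroup
open CfsgLib.OutConway.One (pr pr_eq pr_eq_one pr_surj comm_of_odd neg_comm)

attribute [local irreducible] CfsgLib.Leech.shortVecs CfsgLib.Leech.halfTable CfsgLib.Leech.quarterTable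

variable {G : Type*} [Group G] [Finite G] {f : Co0 →* G}

theorem conj_neg {a b : Co0} (h : IsConj a b) : IsConj (negAut * a) (negAut * b) := by
  obtain ⟨k, rfl⟩ := isConj_iff.1 h
  exact isConj_iff.2 ⟨k, by rw [← mul_assoc, ← neg_comm]; simp only [mul_assoc]⟩

theorem neg_neg_mul (a : Co0) : negAut * (negAut * a) = a := by
  rw [← mul_assoc, OutConway.One.neg_sq, one_mul]

theorem not_D {a : Co0} (h : IsConj a uD) : ¬ IsConj a uO ∧ ¬ IsConj a (negAut * uO) :=
  ⟨fun e => not_D_O (h.symm.trans e), fun e => not_D_negO (h.symm.trans e)⟩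

theorem fused_neg {b : Co0} (h : IsConj b uD) : IsConj b (negAut * b) :=
  (h.trans flip_uD).trans (conj_neg h.symm)

/-- Conjugate elements of the image are conjugate with the central involution simultaneously. -/
theorem fused_iff {z : G} {a b : Co0} (h : IsConj a b) : IsConj z (f a) ↔ IsConj z (f b) :=
  ⟨fun e => e.trans (f.map_isConj h), fun e => e.trans (f.map_isConj h).symm⟩

theorem fused_sq {z v : G} (hz : z * z = 1) (h : IsConj z v) : v * v = 1 := by
  obtain ⟨k, rfl⟩ := isConj_iff.1 h
  rw [conj_mul, hz, mul_one, mul_inv_cancel]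

theorem fused_ne_one {z v : G} (hz : z ≠ 1) (h : IsConj z v) : v ≠ 1 := fun e => hz (by
  obtain ⟨k, hk⟩ := isConj_iff.1 h
  exact conj_eq_one_iff.1 (hk.trans e))

variable (X : Ctx f)
include X

theorem Ctx.z_ne_one : f negAut ≠ 1 := fun e => Leech.negAut_ne_one (X.inj (e.trans (map_one f).symm))

/-- A conjugate of the central involution commuting with it. -/
theorem Ctx.fused_cases {v₀ a₀ : Co0} (R : Reps v₀ a₀) {v : G} (hv : IsConj (f negAut) v)
    (hc : v * f negAut = f negAut * v) (hne : v ≠ f negAut) :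
    ∃ b, v = f b ∧ (IsConj b uO ∨ IsConj b (negAut * uO) ∨ IsConj b uD) := by
  rcases X.classify R hc (fused_sq z_sq hv) (fused_ne_one X.z_ne_one hv) hne with h | ⟨k, c, hcC, hc2, hk⟩
  · exact h
  · exact absurd (hv.trans (isConj_iff.2 ⟨f k, hk.symm⟩).symm) (X.no_four R hcC hc2)

/-- Not both classes of the octad are fused to the central involution. -/
theorem Ctx.not_both {v₀ a₀ : Co0} (R : Reps v₀ a₀) (hU : IsConj (f negAut) (f uO))
    (hM : IsConj (f negAut) (f (negAut * uO))) : False := by
  set v := f (negAut * signAut wO2) with hv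
  have hvf : IsConj (f negAut) v := (fused_iff (conj_neg (R.conj_of_wt words_ok.1.2.2.1))).2 hM
  obtain ⟨k, hk⟩ := isConj_iff.1 hvf
  set g := k⁻¹
  have hgv : g * v * g⁻¹ = f negAut := by rw [← hk]; simp only [g]; group
  set w := g * f uO * g⁻¹ with hwdef
  have hwf : IsConj (f negAut) w := hU.trans (isConj_iff.2 ⟨g, rfl⟩)
  have hcomm : Commute (negAut * signAut wO2) uO :=
    (show Commute negAut uO from neg_comm uO).mul_left (sign_comm wO2 wO)
  have hwz : w * f negAut = f negAut * w := by
    rw [← hgv, hwdef, comm_conj, hv, ← map_mul, ← map_mul, hcomm.eq]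
  have hwne : w ≠ f negAut := fun e => by
    have := X.inj (mul_left_cancel (mul_right_cancel (e.trans hgv.symm)))
    have h := conj_neg (R.conj_of_wt words_ok.1.2.2.1)
    rw [← this] at h
    exact not_O_negO h
  obtain ⟨b, hb, hcases⟩ := X.fused_cases R hwf hwz hwne
  have hs := sends_smul perms_ok.1.2.1 sends_ok.2.1.1
  have hs2 : Commute (permHom (CfsgLib.Golay.Cert.ofList swapL)) (negAut * signAut wO2) :=
    Commute.mul_right (neg_comm _).symm (comm_of_sends perms_ok.1.2.1 sends_ok.2.1.2.2)
  set s := permHom (CfsgLib.Golay.Cert.ofList swapL)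
  have hkz : g * f s * g⁻¹ * f negAut = f negAut * (g * f s * g⁻¹) := by
    rw [← hgv, comm_conj, hv, ← map_mul, ← map_mul, hs2.eq]
  have hkw : g * f s * g⁻¹ * w * (g * f s * g⁻¹)⁻¹ = f negAut * w := by
    calc g * f s * g⁻¹ * w * (g * f s * g⁻¹)⁻¹ = g * (f s * f uO * (f s)⁻¹) * g⁻¹ := by rw [hwdef]; group
      _ = g * f (negAut * signAut wO2 * uO) * g⁻¹ := by
        rw [trio, ← map_inv, ← map_mul, ← map_mul]; exact congrArg (fun x => g * f x * g⁻¹) hs
      _ = g * v * g⁻¹ * (g * f uO * g⁻¹) := by rw [map_mul, conj_mul]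
      _ = f negAut * w := by rw [hgv]
  obtain ⟨a, d, hd, he⟩ := X.cz _ hkz
  rw [he, hb, ← map_mul] at hkw
  have hbb : a * b * a⁻¹ = negAut * b := X.inj (by
    rw [← hkw, map_mul, map_mul, map_inv]
    calc f a * f b * (f a)⁻¹ = f a * (d * f b * d⁻¹) * (f a)⁻¹ := by
          rw [← comm_cT b hd, mul_inv_cancel_right]
      _ = f a * d * f b * (f a * d)⁻¹ := by group)
  have hbn : IsConj b (negAut * b) := isConj_iff.2 ⟨a, hbb⟩
  rcases hcases with h | h | h
  · exact not_O_negO ((h.symm.trans hbn).trans (conj_neg h))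
  · have := (h.symm.trans hbn).trans (conj_neg h)
    rw [neg_neg_mul] at this
    exact not_O_negO this.symm
  · refine not_seven_uD ?_
    haveI : Fact (Nat.Prime 7) := ⟨by norm_num⟩
    have hb1 : pr b = X.pi ⟨f b, fa_mem_nT b⟩ := (X.pi_f b).symm
    set L := centralizer ({f negAut, w} : Set G)
    have hLn : L ≤ nT f := fun x hx => mem_centralizer_singleton_iff.2 (mem_pair.1 hx).1
    have hLK : ∀ x : ↥(nT f), (x : G) ∈ L → X.pi x ∈ centralizer ({pr b} : Set Spor.Co1) := fun x hx => by
      rw [mem_centralizer_singleton_iff, hb1, ← map_mul, ← map_mul]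
      refine congrArg X.pi (Subtype.ext ?_)
      have := (mem_pair.1 hx).2
      rw [hb] at this
      exact this
    have h1 : Nat.card L ∣ Nat.card ↥(centralizer ({pr uD} : Set Spor.Co1)) * Nat.card ↥(cT f) := by
      rw [← card_cent_conj (pr.map_isConj h)]
      exact (X.dvd_bound hLn hLK).trans (mul_dvd_mul_left _ (card_dvd_of_le inf_le_right))
    have h2 : 7 * Nat.card ↥(cT f) ∣ Nat.card L := by
      set H := ((zpowers (pr x7)).comap X.pi).map (nT f).subtype
      have hH : Nat.card H = 7 * Nat.card ↥(cT f) := by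
        rw [X.card_preimage, Nat.card_zpowers, orderOf_eq_prime (p := 7) (by rw [← map_pow, x7_pow, map_one])]
        intro e
        rcases pr_eq_one.1 e with e | e
        · exact x7_ne e
        · have := x7_pow
          rw [e, show (7 : ℕ) = 2 * 3 + 1 from rfl, pow_succ, pow_mul, pow_two, OutConway.One.neg_sq, one_pow,
            one_mul] at this
          exact Leech.negAut_ne_one this
      rw [← hH, show L = centralizer ({g * v * g⁻¹, g * f uO * g⁻¹} : Set G) by rw [hgv], card_pair_conj]
      refine card_dvd_of_le ?_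
      rintro _ ⟨⟨x, hxn⟩, hxH, rfl⟩
      obtain ⟨a, c, hc, rfl⟩ := X.cz x (mem_centralizer_singleton_iff.1 hxn)
      obtain ⟨i, hi⟩ := mem_zpowers_iff.1 (mem_comap.1 hxH)
      rw [X.pi_eq _ hc rfl, ← map_zpow, pr_eq] at hi
      have hcy : ∀ {y : Co0}, Commute x7 y → f a * c * f y = f y * (f a * c) := fun {y} hy => by
        have hay : a * y = y * a := by
          rcases hi with e | e
          · rw [← e]; exact (hy.zpow_left i).eq
          · rw [show a = negAut * x7 ^ i by rw [e, neg_neg_mul]]
            exact ((show Commute negAut y from neg_comm y).mul_left (hy.zpow_left i)).eq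
        rw [mul_assoc, ← comm_cT y hc, ← mul_assoc, ← map_mul, hay, map_mul, mul_assoc]
      exact mem_pair.2 ⟨hcy (Commute.mul_right (neg_comm x7).symm x7_O2), hcy x7_O⟩
    exact Nat.dvd_of_mul_dvd_mul_right Nat.card_pos (h2.trans h1)

/-- Exactly one class of the octad fused to the central involution is impossible. -/
theorem Ctx.not_one {v₀ a₀ : Co0} (R : Reps v₀ a₀) {e : Co0} (he : e = uO ∨ e = negAut * uO)
    (hin : IsConj (f negAut) (f e)) (hout : ¬ IsConj (f negAut) (f (negAut * e)))
    {v : Co0} (hv : IsConj v e) (hve : IsConj (v * e) e) (hcomm : v * e = e * v) : False := by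
  set z := f negAut with hz
  have hzz : z * z = 1 := z_sq
  have hzu : f e * z = z * f e := mem_centralizer_singleton_iff.1 (fa_mem_nT e)
  have huu : f e * f e = 1 := fused_sq hzz hin
  have hclass : ∀ {b}, IsConj b uO ∨ IsConj b (negAut * uO) ∨ IsConj b uD →
      IsConj b e ∨ IsConj b (negAut * e) ∨ IsConj b uD := by
    intro b h
    rcases he with rfl | rfl
    · exact h
    · rw [neg_neg_mul]
      rcases h with h | h | h
      exacts [Or.inr (Or.inl h), Or.inl h, Or.inr (Or.inr h)]
  obtain ⟨k, hk⟩ := isConj_iff.1 hin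
  set g := k⁻¹
  have hgu : g * f e * g⁻¹ = z := by rw [← hk]; simp only [g]; group
  set w := g * z * g⁻¹ with hw
  have hwf : IsConj z w := isConj_iff.2 ⟨g, rfl⟩
  have hwz : w * z = z * w := by
    calc w * z = g * z * g⁻¹ * (g * f e * g⁻¹) := by rw [hgu]
      _ = g * f e * g⁻¹ * (g * z * g⁻¹) := (comm_conj g z (f e)).2 hzu.symm
      _ = z * w := by rw [hgu]
  have hwne : w ≠ z := fun h => by
    have h1 := X.inj (mul_left_cancel (mul_right_cancel (h.trans hgu.symm)))
    have h2 : pr uO = 1 := by
      have := congrArg pr h1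
      rw [pr_eq_one.2 (Or.inr rfl)] at this
      rcases he with rfl | rfl
      · exact this.symm
      · rw [pr_neg] at this; exact this.symm
    exact pr_ne_one (Or.inl words_ok.1.1) h2
  obtain ⟨b, hb, hbc⟩ := X.fused_cases R hwf hwz hwne
  have hopen : ¬ IsConj z (f (negAut * b)) := fun h => by
    refine hout (h.trans ?_)
    rw [map_mul, map_mul, ← hb]
    exact (isConj_iff.2 ⟨g, by
      calc g * (z * f e) * g⁻¹ = g * z * g⁻¹ * (g * f e * g⁻¹) := by group
        _ = z * w := by rw [hgu, hwz]⟩).symm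
  have hbe : IsConj b e := by
    rcases hclass hbc with h | h | h
    · exact h
    · exact absurd ((fused_iff h).1 (hb ▸ hwf)) hout
    · exact absurd ((fused_iff (fused_neg h)).1 (hb ▸ hwf)) hopen
  obtain ⟨a, ha⟩ := isConj_iff.1 hbe
  set h := f a * g with hh
  have hhu : h * f e * h⁻¹ = z := by
    rw [hh, show f a * g * f e * (f a * g)⁻¹ = f a * (g * f e * g⁻¹) * (f a)⁻¹ by group, hgu,
      mem_centralizer_singleton_iff.1 (fa_mem_nT a), mul_inv_cancel_right]
  have hhz : h * z * h⁻¹ = f e := by
    rw [hh, show f a * g * z * (f a * g)⁻¹ = f a * (g * z * g⁻¹) * (f a)⁻¹ by group, ← hw, hb, ← map_inv,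
      ← map_mul, ← map_mul, ha]
  set v' := h * f v * h⁻¹ with hv'
  have hvf : IsConj z (f v) := (fused_iff hv).2 hin
  have hv'f : IsConj z v' := hvf.trans (isConj_iff.2 ⟨h, rfl⟩)
  have hv'z : v' * z = z * v' := by rw [← hhu, hv', comm_conj, ← map_mul, ← map_mul, hcomm]
  have hv'zf : IsConj z (v' * z) := by
    rw [← hhu, hv', conj_mul, ← map_mul, hhu]
    exact ((fused_iff hve).2 hin).trans (isConj_iff.2 ⟨h, rfl⟩)
  have hv'ne : v' ≠ z := fun e' => fused_ne_one X.z_ne_one hv'zf (by rw [e', hzz])
  obtain ⟨d, hd, hdc⟩ := X.fused_cases R hv'f hv'z hv'ne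
  have hdD : IsConj d uD := by
    rcases hclass hdc with h1 | h1 | h1
    · refine absurd ?_ hout
      have := (fused_iff (conj_neg h1)).1 (show IsConj z (f (negAut * d)) by
        rw [map_mul, ← hd, ← hz, ← hv'z]; exact hv'zf)
      exact this
    · exact absurd ((fused_iff h1).1 (hd ▸ hv'f)) hout
    · exact h1
  have hn1 : ¬ IsConj z (v' * f e) := fun h1 => by
    rw [← hhz, hv', conj_mul, ← map_mul] at h1
    refine hout ((h1.trans (isConj_iff.2 ⟨h, rfl⟩).symm).trans ?_)
    rw [← neg_comm]
    exact f.map_isConj (conj_neg hv)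
  have hn2 : ¬ IsConj z (v' * z * f e) := fun h1 => by
    rw [show v' * z * f e = h * (f v * f e * z) * h⁻¹ by
      rw [hv']; nth_rewrite 1 [← hhu]; nth_rewrite 2 [← hhz]; group, ← map_mul, ← map_mul] at h1
    refine hout ((h1.trans (isConj_iff.2 ⟨h, rfl⟩).symm).trans ?_)
    rw [← neg_comm]
    exact f.map_isConj (conj_neg hve)
  have hde : d * e = e * d := X.inj (by
    rw [map_mul, map_mul, ← hd, hv', ← hhz, comm_conj]
    exact (mem_centralizer_singleton_iff.1 (fa_mem_nT v)))
  have hsq : ∀ {b : Co0}, IsConj z (f b) → b * b = 1 := fun {b} h1 =>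
    X.inj (by rw [map_mul, fused_sq hzz h1, map_one])
  have hde2 : d * e * (d * e) = 1 := by
    rw [mul_assoc, ← mul_assoc e, ← hde, mul_assoc d e e, hsq hin, mul_one, hsq (hd ▸ hv'f)]
  have hde1 : pr (d * e) ≠ 1 := fun h1 => by
    have e1 : IsConj (pr d) (pr uO) := by
      rw [map_mul, mul_eq_one_iff_eq_inv] at h1
      rw [h1, ← map_inv, inv_eq_of_mul_eq_one_left (hsq hin)]
      rcases he with rfl | rfl
      · exact IsConj.refl _
      · rw [pr_neg]
    exact not_OD (e1.symm.trans (pr.map_isConj hdD))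
  rcases hclass (R.cover_sq_one hde1 hde2) with h1 | h1 | h1
  · exact hn1 (by rw [hd, ← map_mul]; exact (fused_iff h1).2 hin)
  · refine hn2 ?_
    rw [hv'z, hd, hz, ← map_mul, ← map_mul, mul_assoc]
    refine (fused_iff ?_).2 hin
    have := conj_neg h1
    rwa [neg_neg_mul] at this
  · exact hn1 (by rw [hd, ← map_mul]; exact (fused_iff (h1.trans hdD.symm)).2 (hd ▸ hv'f))

/-- At least one class of the octad is fused to the central involution. -/
theorem Ctx.not_none {v₀ a₀ : Co0} (R : Reps v₀ a₀) (hD : IsConj (f negAut) (f uD))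
    (hU : ¬ IsConj (f negAut) (f uO)) (hM : ¬ IsConj (f negAut) (f (negAut * uO))) : False := by
  set z := f negAut with hz
  obtain ⟨k, hk⟩ := isConj_iff.1 hD
  set g := k⁻¹
  have hgv : g * f uD * g⁻¹ = z := by rw [← hk]; simp only [g]; group
  have hE : IsConj (signAut wE) uD := by
    rcases R.cover_sq_one (pr_ne_one (Or.inr words_ok.1.2.2.2.2.2))
      (by nth_rewrite 2 [← signAut_inv wE]; exact mul_inv_cancel _) with e | e | e
    · have := wt_of_conj e
      rw [words_ok.1.2.2.2.2.2, words_ok.1.1] at this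
      norm_num at this
    · rw [uO, ← sign_add_A] at e
      have := wt_of_conj e
      rw [words_ok.1.2.2.2.2.2, show wtW (wO + wA) = 16 by decide +kernel] at this
      norm_num at this
    · exact e
  set w := g * f (signAut wE) * g⁻¹ with hw
  have hwf : IsConj z w := ((fused_iff hE).2 hD).trans (isConj_iff.2 ⟨g, rfl⟩)
  have hprod : IsConj (uD * signAut wE) uO := by
    rw [uD, signAut_mul]; exact R.conj_of_wt words_ok.2.2.1
  have hwz : w * z = z * w := by
    rw [← hgv, hw, comm_conj, ← map_mul, ← map_mul, uD, (sign_comm wE wD).eq]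
  have hwne : w ≠ z := fun e => by
    have := X.inj (mul_left_cancel (mul_right_cancel (e.trans hgv.symm)))
    rw [this, uD_sq] at hprod
    refine fused_ne_one (z := uO) ?_ hprod.symm rfl
    exact fun e => pr_ne_one (Or.inl words_ok.1.1) (by rw [← uO, e, map_one])
  obtain ⟨b, hb, h | h | h⟩ := X.fused_cases R hwf hwz hwne
  · exact hU ((fused_iff h).1 (hb ▸ hwf))
  · exact hM ((fused_iff h).1 (hb ▸ hwf))
  · refine hU ((fused_iff hprod).1 ?_)
    have hzw : IsConj z (z * w) := by
      rw [hb, hz, ← map_mul]; exact (fused_iff (fused_neg h)).1 (hb ▸ hwf)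
    refine hzw.trans ?_
    rw [map_mul]
    exact (isConj_iff.2 ⟨g, by rw [← conj_mul, hgv]⟩).symm

/-- The central involution is isolated. -/
theorem Ctx.isolated {v₀ a₀ : Co0} (R : Reps v₀ a₀) {g : G}
    (hc : f negAut * (g * f negAut * g⁻¹) = g * f negAut * g⁻¹ * f negAut) :
    g * f negAut * g⁻¹ = f negAut := by
  by_contra hne
  obtain ⟨b, hb, hcases⟩ := X.fused_cases R (isConj_iff.2 ⟨g, rfl⟩) hc.symm hne
  have hbf : IsConj (f negAut) (f b) := hb ▸ isConj_iff.2 ⟨g, rfl⟩
  have hwO : ∀ {w : golayCode}, wtW w = 8 → IsConj (signAut w) uO := fun {w} h => R.conj_of_wt h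
  by_cases hU : IsConj (f negAut) (f uO)
  · by_cases hM : IsConj (f negAut) (f (negAut * uO))
    · exact X.not_both R hU hM
    · refine X.not_one R (Or.inl rfl) hU hM (v := signAut wF) (hwO words_ok.1.2.2.2.1) ?_ (sign_comm wF wO).eq
      show IsConj (signAut wF * signAut wO) uO
      rw [signAut_mul, add_comm]
      exact hwO words_ok.2.1
  · by_cases hM : IsConj (f negAut) (f (negAut * uO))
    · refine X.not_one R (Or.inr rfl) hM (by rwa [neg_neg_mul]) (v := negAut * signAut wO1)
        (conj_neg (hwO words_ok.1.2.1)) ?_ ?_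
      · have h2 : negAut * signAut wO1 * (negAut * uO) = negAut * signAut wO2 := by
          rw [← trio]
          calc negAut * (negAut * signAut wO2 * uO) * (negAut * uO)
              = negAut * (negAut * signAut wO2) * (uO * negAut) * uO := by simp only [mul_assoc]
            _ = signAut wO2 * (negAut * uO) * uO := by rw [neg_neg_mul, ← neg_comm]
            _ = signAut wO2 * negAut * (uO * uO) := by simp only [mul_assoc]
            _ = negAut * signAut wO2 := by rw [uO_sq, mul_one, neg_comm]
        rw [h2]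
        exact conj_neg (hwO words_ok.1.2.2.1)
      · exact ((show Commute negAut (negAut * uO) from neg_comm _).mul_left
          ((show Commute (signAut wO1) negAut from (neg_comm _).symm).mul_right (sign_comm wO1 wO))).eq
    · rcases hcases with h | h | h
      · exact hU ((fused_iff h).1 hbf)
      · exact hM ((fused_iff h).1 hbf)
      · exact X.not_none R ((fused_iff h).1 hbf) hU hM

end CfsgLib.Co1Comp
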