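import Cfsg.Agent.Co1Comp.Model

/-!
A subgroup which is the image of the automorphism group of the lattice, together with its centraliser, as the
centraliser of the central involution.
-/

set_option autoImplicit false
set_option maxRecDepth 100000
set_option linter.style.haveILetI false
set_option linter.unusedSectionVars false

namespace CfsgLib.Co1Comp

open Cfsg CfsgLib CfsgLib.Leech Subgroup
open CfsgLib.OutConway.One (pr pr_eq pr_eq_one pr_surj comm_of_odd neg_comm neg_sq mem_center_iff')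

attribute [local irreducible] CfsgLib.Leech.shortVecs CfsgLib.Leech.halfTable CfsgLib.Leech.quarterTable

variable {G : Type*} [Group G] [Finite G]

/-- The centraliser of the image. -/
def cT (f : Co0 →* G) : Subgroup G := centralizer (f.range : Set G)

/-- The centraliser of the central involution of the image. -/
def nT (f : Co0 →* G) : Subgroup G := centralizer ({f negAut} : Set G)

/-- The hypotheses on the image. -/
structure Ctx (f : Co0 →* G) : Prop where
  inj : Function.Injective f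
  uniq : ∀ c ∈ cT f, c * c = 1 → c = 1 ∨ c = f negAut
  cz : ∀ g : G, g * f negAut = f negAut * g → ∃ a, ∃ c ∈ cT f, g = f a * c

variable {f : Co0 →* G}

theorem comm_cT (a : Co0) {c : G} (hc : c ∈ cT f) : f a * c = c * f a :=
  mem_centralizer_iff.1 hc _ ⟨a, rfl⟩

theorem z_mem_cT : f negAut ∈ cT f := mem_centralizer_iff.2 fun g ⟨a, ha⟩ => by
  rw [← ha, ← map_mul, ← map_mul, neg_comm]

theorem z_sq : f negAut * f negAut = 1 := by rw [← map_mul, neg_sq, map_one]

theorem fa_mem_nT (a : Co0) : f a ∈ nT f :=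
  mem_centralizer_singleton_iff.2 (by rw [← map_mul, ← map_mul, neg_comm])

theorem cT_le_nT : cT f ≤ nT f := fun _ hc => mem_centralizer_singleton_iff.2 (comm_cT negAut hc).symm

theorem mul_mem_nT (a : Co0) {c : G} (hc : c ∈ cT f) : f a * c ∈ nT f := mul_mem (fa_mem_nT a) (cT_le_nT hc)

variable (X : Ctx f)
include X

theorem Ctx.pr_of_mem {a : Co0} (h : f a ∈ cT f) : pr a = 1 :=
  pr_eq_one.2 (mem_center_iff'.1 (Subgroup.mem_center_iff.2 fun b => X.inj (by
    rw [map_mul, map_mul]; exact comm_cT b h)))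

theorem Ctx.pr_unique {a b : Co0} {c d : G} (hc : c ∈ cT f) (hd : d ∈ cT f) (h : f a * c = f b * d) :
    pr a = pr b := by
  have : f (b⁻¹ * a) ∈ cT f := by
    rw [map_mul, map_inv, show (f b)⁻¹ * f a = d * c⁻¹ by
      rw [eq_mul_inv_iff_mul_eq, mul_assoc, h, inv_mul_cancel_left]]
    exact mul_mem hd (inv_mem hc)
  have := X.pr_of_mem this
  rw [map_mul, map_inv, inv_mul_eq_one] at this
  exact this.symm

theorem Ctx.exists_pi : ∃ π : ↥(nT f) →* Spor.Co1,
    ∀ (g : ↥(nT f)) (a : Co0) (c : G), c ∈ cT f → (g : G) = f a * c → π g = pr a := by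
  classical
  have key : ∀ g : ↥(nT f), ∃ a, ∃ c ∈ cT f, (g : G) = f a * c := fun g =>
    X.cz _ (mem_centralizer_singleton_iff.1 g.2)
  choose α γ hγ hg using key
  refine ⟨MonoidHom.mk' (fun g => pr (α g)) fun g g' => ?_, fun g a c hc e =>
    X.pr_unique (hγ g) hc ((hg g).symm.trans e)⟩
  rw [← map_mul]
  refine X.pr_unique (hγ _) (mul_mem (hγ g) (hγ g')) ((hg (g * g')).symm.trans ?_)
  rw [coe_mul, hg, hg, map_mul, mul_assoc, ← mul_assoc (γ g), ← comm_cT (α g') (hγ g)]
  simp only [mul_assoc]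

/-- The projection. -/
noncomputable def Ctx.pi : ↥(nT f) →* Spor.Co1 := X.exists_pi.choose

theorem Ctx.pi_eq (g : ↥(nT f)) {a : Co0} {c : G} (hc : c ∈ cT f) (e : (g : G) = f a * c) : X.pi g = pr a :=
  X.exists_pi.choose_spec g a c hc e

theorem Ctx.pi_f (a : Co0) : X.pi ⟨f a, fa_mem_nT a⟩ = pr a :=
  X.pi_eq _ (one_mem _) (mul_one _).symm

theorem Ctx.pi_eq_one (g : ↥(nT f)) : X.pi g = 1 ↔ (g : G) ∈ cT f := by
  obtain ⟨a, c, hc, e⟩ := X.cz _ (mem_centralizer_singleton_iff.1 g.2)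
  rw [X.pi_eq g hc e, e, Subgroup.mul_mem_cancel_right _ hc]
  refine ⟨fun h => ?_, X.pr_of_mem⟩
  rcases pr_eq_one.1 h with rfl | rfl
  · rw [map_one]; exact one_mem _
  · exact z_mem_cT

theorem Ctx.pi_surj : Function.Surjective X.pi := fun q => by
  obtain ⟨a, rfl⟩ := pr_surj q
  exact ⟨_, X.pi_f a⟩

/-- The order of a subgroup of the centraliser is the product of the orders of its image and its part in the
centraliser of the image. -/
theorem Ctx.card_split {L : Subgroup G} (hL : L ≤ nT f) :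
    Nat.card ((L.subgroupOf (nT f)).map X.pi) * Nat.card ↥(L ⊓ cT f) = Nat.card L := by
  let ψ := X.pi.comp (L.subgroupOf (nT f)).subtype
  have hr : ψ.range = (L.subgroupOf (nT f)).map X.pi := by
    rw [MonoidHom.range_eq_map, ← Subgroup.map_map, ← MonoidHom.range_eq_map, Subgroup.range_subtype]
  have hk : Nat.card ψ.ker = Nat.card ↥(L ⊓ cT f) := Nat.card_congr
    { toFun := fun g => ⟨((g.1 : ↥(nT f)) : G), mem_subgroupOf.1 g.1.2, (X.pi_eq_one _).1 g.2⟩
      invFun := fun g => ⟨⟨⟨(g : G), hL g.2.1⟩, mem_subgroupOf.2 g.2.1⟩, (X.pi_eq_one ⟨(g : G), hL g.2.1⟩).2 g.2.2⟩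
      left_inv := fun g => by ext; rfl
      right_inv := fun g => rfl }
  rw [← hr, ← hk, ← Nat.card_congr (QuotientGroup.quotientKerEquivRange ψ).toEquiv,
    ← Subgroup.card_eq_card_quotient_mul_card_subgroup]
  exact Nat.card_congr (Subgroup.subgroupOfEquivOfLe hL).toEquiv

/-- A bound on a subgroup. -/
theorem Ctx.dvd_bound {L : Subgroup G} (hL : L ≤ nT f) {K : Subgroup Spor.Co1}
    (hK : ∀ g : ↥(nT f), (g : G) ∈ L → X.pi g ∈ K) : Nat.card L ∣ Nat.card K * Nat.card ↥(L ⊓ cT f) := by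
  rw [← X.card_split hL]
  exact mul_dvd_mul_right (card_dvd_of_le (Subgroup.map_le_iff_le_comap.2 fun g hg => hK g (mem_subgroupOf.1 hg))) _

/-- The order of the preimage of a subgroup. -/
theorem Ctx.card_preimage (K : Subgroup Spor.Co1) :
    Nat.card ↥((K.comap X.pi).map (nT f).subtype) = Nat.card K * Nat.card ↥(cT f) := by
  rw [← X.card_split (map_subtype_le _)]
  congr 1
  · congr 1
    rw [Subgroup.subgroupOf, Subgroup.comap_map_eq_self_of_injective (nT f).subtype_injective,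
      Subgroup.map_comap_eq_self_of_surjective X.pi_surj]
  · rw [inf_of_le_right]
    exact fun c hc => ⟨⟨c, cT_le_nT hc⟩, mem_comap.2 (by
      rw [(X.pi_eq_one ⟨c, cT_le_nT hc⟩).2 hc]; exact one_mem _), rfl⟩

/-- An involution commuting with the central one. -/
theorem Ctx.classify {a₀ b₀ : Co0} (R : Reps a₀ b₀) {g : G} (hz : g * f negAut = f negAut * g) (h2 : g * g = 1)
    (hg1 : g ≠ 1) (hgz : g ≠ f negAut) :
    (∃ b, g = f b ∧ (IsConj b uO ∨ IsConj b (negAut * uO) ∨ IsConj b uD)) ∨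
      ∃ k : Co0, ∃ c ∈ cT f, c * c = f negAut ∧ g = f k * (f aB * c) * (f k)⁻¹ := by
  obtain ⟨b, c, hc, rfl⟩ := X.cz g hz
  have e : f (b * b) * (c * c) = 1 := by
    rw [map_mul, ← h2, mul_assoc (f b) c, ← mul_assoc c, ← comm_cT b hc]
    simp only [mul_assoc]
  have hb : pr b ≠ 1 := fun hb => by
    have hm : f b * c ∈ cT f := (X.pi_eq_one ⟨_, mul_mem_nT b hc⟩).1 (by rw [X.pi_eq _ hc rfl, hb])
    exact (X.uniq _ hm h2).elim hg1 hgz
  have hcc : c * c ∈ cT f := mul_mem hc hc
  have hbb : pr (b * b) = 1 := X.pr_of_mem (by rw [eq_inv_of_mul_eq_one_left e]; exact inv_mem hcc)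
  rcases pr_eq_one.1 hbb with h | h
  · rw [h, map_one, one_mul] at e
    rcases X.uniq c hc e with rfl | rfl
    · exact Or.inl ⟨b, mul_one _, R.cover_sq_one hb h⟩
    · refine Or.inl ⟨negAut * b, by rw [neg_comm, map_mul], R.cover_sq_one (by rwa [pr_neg]) (neg_mul_sq h)⟩
  · rw [h] at e
    have hc2 : c * c = f negAut := by
      rw [eq_inv_of_mul_eq_one_right e, inv_eq_iff_mul_eq_one, z_sq]
    obtain ⟨k, hk⟩ := isConj_iff.1 (R.cover_sq_neg h).symm
    refine Or.inr ⟨k, c, hc, hc2, ?_⟩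
    rw [← hk, map_mul, map_mul, map_inv]
    calc f k * f aB * (f k)⁻¹ * c = f k * f aB * ((f k)⁻¹ * c) := by simp only [mul_assoc]
      _ = f k * f aB * (c * (f k)⁻¹) := by rw [← map_inv, comm_cT k⁻¹ hc]
      _ = f k * (f aB * c) * (f k)⁻¹ := by simp only [mul_assoc]

end CfsgLib.Co1Comp
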