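import Cfsg.Agent.Co1Loc.Assembly
import Cfsg.Agent.Co1Loc.Closure
import Cfsg.Agent.Co1Loc.NineW

/-!
The three classes of involutions in a group of first Conway type, with the centraliser facts used for the standard
component.
-/

set_option autoImplicit false
set_option maxRecDepth 100000
set_option synthInstance.maxSize 4096
set_option linter.style.haveILetI false
set_option linter.unusedSectionVars false

namespace CfsgLib.Co1Comp

open CfsgLib CfsgLib.Quad CfsgLib.Co1Invol CfsgLib.Co1Five CfsgLib.Co1Golay CfsgLib.Co1Loc Subgroup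

/-- The data on the classes of involutions. -/
structure Types {G : Type*} [Group G] (z c t v a : G) : Prop where
  cases : ∀ g : G, orderOf g = 2 → IsConj z g ∨ IsConj c g ∨ IsConj t g
  not_zc : ¬ IsConj z c
  not_zt : ¬ IsConj z t
  not_ct : ¬ IsConj c t
  seven : ¬ 7 ∣ Nat.card ↥(centralizer ({c} : Set G))
  sylow : ¬ Nat.card ↥(centralizer ({z} : Set G)) ∣ Nat.card ↥(centralizer ({t} : Set G))
  ord_z : orderOf z = 2
  ord_c : orderOf c = 2
  ord_t : orderOf t = 2
  ord_v : orderOf v = 7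
  ord_a : orderOf a = 3
  comm_vt : v * t = t * v
  comm_at : a * t = t * a
  comm_va : v * a = a * v
  card_vt : Nat.card ↥(centralizer ({t, v} : Set G)) = 168
  sq : ∀ g : G, g * t = t * g → g * v = v * g → g * a = a * g → g ^ 4 = 1 → g ^ 2 = 1

/-- The model involution of seven points. -/
def s0 : Equiv.Perm (Fin 7) := Equiv.swap 0 1 * Equiv.swap 2 3
/-- The model element of order three. -/
def a0 : Equiv.Perm (Fin 7) := Equiv.swap 4 5 * Equiv.swap 5 6

set_option synthInstance.maxHeartbeats 400000 in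
theorem seven_card : (Finset.univ.filter fun g : Equiv.Perm (Fin 7) => g * s0 = s0 * g ∧ Equiv.Perm.sign g = 1).card = 24 := by
  decide +kernel

set_option synthInstance.maxHeartbeats 400000 in
theorem seven_sq : ∀ g : Equiv.Perm (Fin 7), g * s0 = s0 * g → Equiv.Perm.sign g = 1 → g * a0 = a0 * g →
    g * g * (g * g) = 1 → g * g = 1 := by
  decide +kernel

theorem a0_facts : a0 * s0 = s0 * a0 ∧ Equiv.Perm.sign a0 = 1 ∧ a0 ^ 3 = 1 ∧ a0 ≠ 1 ∧ s0.cycleType = {2, 2} := by
  refine ⟨by decide +kernel, by decide +kernel, by decide +kernel, by decide +kernel, ?_⟩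
  decide +kernel

/-- An even involution fixing the last four of nine points moves four points. -/
theorem support_four {p : Equiv.Perm (Fin 9)} (hs : Equiv.Perm.sign p = 1) (h2 : orderOf p = 2)
    (hfix : ∀ i : Fin 9, 5 ≤ i → p i = i) : p.support.card = 4 := by
  haveI : Fact (Nat.Prime 2) := ⟨Nat.prime_two⟩
  obtain ⟨n, hn⟩ := Equiv.Perm.cycleType_prime_order (h2.symm ▸ Nat.prime_two : (orderOf p).Prime)
  rw [h2] at hn
  have hcard : p.support.card ≤ 5 := by
    refine (Finset.card_le_card (t := (Finset.univ.filter fun i : Fin 9 => i < 5)) fun i hi => ?_).trans (by decide +kernel)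
    rw [Equiv.Perm.mem_support] at hi
    simp only [Finset.mem_filter, Finset.mem_univ, true_and]
    exact lt_of_not_ge fun h => hi (hfix i h)
  have hsum := p.sum_cycleType
  rw [hn, Multiset.sum_replicate, smul_eq_mul] at hsum
  rw [Equiv.Perm.sign_of_cycleType, hn, Multiset.sum_replicate, Multiset.card_replicate, smul_eq_mul] at hs
  have : n = 1 := by
    by_contra hne
    have h0 : n = 0 := by omega
    subst h0
    norm_num at hs
  omega

variable {G : Type*} [Group G] [Finite G] {z : G}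

/-- An involution whose centraliser has at least the order of the centraliser of the central one is conjugate
to it. -/
theorem conj_of_dvd (D : Dat z) {t : G} (ht : orderOf t = 2)
    (h : Nat.card ↥(centralizer ({z} : Set G)) ∣ Nat.card ↥(centralizer ({t} : Set G))) : IsConj z t := by
  haveI : Fact (Nat.Prime 2) := ⟨Nat.prime_two⟩
  set C := centralizer ({z} : Set G)
  obtain ⟨T₀⟩ : Nonempty (Sylow 2 C) := inferInstance
  set T := (T₀ : Subgroup C).map C.subtype
  have hT2 : IsPGroup 2 T := T₀.2.map _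
  have hcardT : Nat.card T = Nat.card (T₀ : Subgroup C) := Subgroup.card_map_of_injective C.subtype_injective
  have hQC : D.Q ≤ C := fun q hq => mem_centralizer_singleton_iff.2 (D.pre.gen.comm_z q hq).eq
  have hQn : (D.Q.subgroupOf C).Normal := normal_subgroupOf_of_le_normalizer D.pre.norm
  have hQT : D.Q ≤ T := by
    intro q hq
    have hp : IsPGroup 2 (D.Q.subgroupOf C) := (IsPGroup.of_card (n := 9) (by rw [D.card]; norm_num) :
      IsPGroup 2 D.Q).comap_of_injective C.subtype C.subtype_injective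
    haveI := hQn
    exact ⟨⟨q, hQC hq⟩, IsPGroup.le_sylow_of_normal hp T₀ (show (⟨q, hQC hq⟩ : C) ∈ D.Q.subgroupOf C from mem_subgroupOf.2 hq), rfl⟩
  have hcent : ∀ {u : G}, u * u = 1 → u ≠ 1 → (∀ q ∈ T, u * q = q * u) → u = z := by
    intro u _ hu1 hu
    have hQ : u ∈ D.Q := D.pre.self (mem_centralizer_iff.2 fun q hq => (hu q (hQT hq)).symm)
    exact (D.pre.gen.center_iff u hQ fun q hq => hu q (hQT hq)).resolve_left hu1
  have hzT : z ∈ T := hQT D.pre.gen.mem
  obtain ⟨S, hTS⟩ := hT2.exists_le_sylow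
  have hST : (S : Subgroup G) = T := by
    refine le_antisymm ?_ hTS
    intro g hg
    by_contra hgT
    have hne : T.subgroupOf (S : Subgroup G) ≠ ⊤ := fun e => hgT (mem_subgroupOf.1
      (e ▸ mem_top (⟨g, hg⟩ : (S : Subgroup G))))
    haveI : Group.IsNilpotent (S : Subgroup G) := S.2.isNilpotent
    have hlt := normalizerCondition_of_isNilpotent _ hne.lt_top
    obtain ⟨⟨s, hs⟩, hsN, hsT⟩ := SetLike.exists_of_lt hlt
    have hn : ∀ q ∈ T, s * q * s⁻¹ ∈ T := fun q hq => by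
      have := (mem_normalizer_iff.1 hsN ⟨q, hTS hq⟩).1 (mem_subgroupOf.2 hq)
      exact mem_subgroupOf.1 this
    have hTz : ∀ q ∈ T, z * q = q * z := by
      rintro _ ⟨q, -, rfl⟩
      exact (mem_centralizer_singleton_iff.1 q.2).symm
    have hn' : ∀ q ∈ T, s⁻¹ * q * s ∈ T := fun q hq => by
      have := (mem_normalizer_iff.1 (inv_mem hsN) ⟨q, hTS hq⟩).1 (mem_subgroupOf.2 hq)
      rw [inv_inv] at this
      exact mem_subgroupOf.1 this
    have hsz : s * z * s⁻¹ = z := hcent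
      (by rw [show s * z * s⁻¹ * (s * z * s⁻¹) = s * (z * z) * s⁻¹ by group, D.pre.gen.sq]; group)
      (fun e => D.pre.gen.ne_one (by rwa [conj_eq_one_iff] at e)) fun q hq => by
        calc s * z * s⁻¹ * q = s * (z * (s⁻¹ * q * s)) * s⁻¹ := by group
          _ = s * (s⁻¹ * q * s * z) * s⁻¹ := by rw [hTz _ (hn' q hq)]
          _ = q * (s * z * s⁻¹) := by group
    refine hsT (mem_subgroupOf.2 ?_)
    have hsC : s ∈ C := mem_centralizer_singleton_iff.2 (mul_inv_eq_iff_eq_mul.1 hsz)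
    have hp : IsPGroup 2 ((S : Subgroup G).subgroupOf C) := S.2.comap_of_injective C.subtype C.subtype_injective
    have hle : (T₀ : Subgroup C) ≤ (S : Subgroup G).subgroupOf C := fun q hq => mem_subgroupOf.2 (hTS ⟨q, hq, rfl⟩)
    have := T₀.3 hp hle
    exact ⟨⟨s, hsC⟩, this ▸ mem_subgroupOf.2 hs, rfl⟩
  obtain ⟨U₀⟩ : Nonempty (Sylow 2 (centralizer ({t} : Set G))) := inferInstance
  have hU : Nat.card T ≤ Nat.card (U₀ : Subgroup (centralizer ({t} : Set G))) := by
    rw [hcardT, T₀.card_eq_multiplicity, U₀.card_eq_multiplicity]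
    exact Nat.pow_le_pow_right (by norm_num) ((Nat.factorization_le_iff_dvd Nat.card_pos.ne' Nat.card_pos.ne').2 h 2)
  obtain ⟨S', hS'⟩ := (U₀.2.map (centralizer ({t} : Set G)).subtype).exists_le_sylow
  obtain ⟨g, hg⟩ := MulAction.exists_smul_eq G S S'
  have hcc : Nat.card (S' : Subgroup G) = Nat.card T := by
    rw [S'.card_eq_multiplicity, ← S.card_eq_multiplicity, hST]
  have hUS : (U₀ : Subgroup (centralizer ({t} : Set G))).map (centralizer ({t} : Set G)).subtype = S' :=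
    eq_of_le_of_card_ge hS' (hcc.trans_le (hU.trans (Subgroup.card_map_of_injective (Subgroup.subtype_injective _)).ge))
  have ht2 : t * t = 1 := by rw [← pow_two, ← ht, pow_orderOf_eq_one]
  have key : g⁻¹ * t * g = z := hcent
    (by rw [show g⁻¹ * t * g * (g⁻¹ * t * g) = g⁻¹ * (t * t) * g by group, ht2]; group)
    (fun e => by
      have : t = 1 := by rw [show t = g * (g⁻¹ * t * g) * g⁻¹ by group, e]; group
      rw [this, orderOf_one] at ht
      norm_num at ht)
    fun q hq => by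
      have hq' : g * q * g⁻¹ ∈ (S' : Subgroup G) := by
        rw [← hg, Sylow.coe_subgroup_smul]
        exact Subgroup.mem_map_of_mem (MulAut.conj g).toMonoidHom (hST.symm ▸ hq : q ∈ (S : Subgroup G))
      rw [← hUS] at hq'
      obtain ⟨⟨p, hp⟩, -, (hpe : p = g * q * g⁻¹)⟩ := hq'
      have := mem_centralizer_singleton_iff.1 hp
      rw [hpe] at this
      calc g⁻¹ * t * g * q = g⁻¹ * (t * (g * q * g⁻¹)) * g := by group
        _ = g⁻¹ * (g * q * g⁻¹ * t) * g := by rw [this]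
        _ = q * (g⁻¹ * t * g) := by group
  exact isConj_iff.2 ⟨g, by rw [← key]; group⟩

set_option maxHeartbeats 1600000 in
/-- The facts, given the centraliser of the element of order seven. -/
theorem types_of (D : Dat z) {g₀ : G} (h₀ : g₀ * z * g₀⁻¹ ∈ D.Q) (hne : g₀ * z * g₀⁻¹ ≠ z)
    (hV : ∀ {b x : G} (_F : Five D b) (_S : Split D b x) {A : Subgroup G} {c t : G}
      (_hK : Nonempty (↥(compl b x) ≃* ↥(alternatingGroup (Fin 5))))
      (_hdec : ∀ g ∈ centralizer ({b} : Set G), ∃ h ∈ centralizer (compl b x : Set G), ∃ i : ℤ, g = h * b ^ i)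
      (_Cl : Cls D A c t) {w r r' a u v y : G} (_W : Wit D b x w r r' a u v y)
      {f : ↥(alternatingGroup (Fin 9)) →* G} (_N : Nine c t w a r (compl b x) f),
      Nonempty (↥(centralizer (zpowers v : Set G)) ≃* Multiplicative (ZMod 7) × alternatingGroup (Fin 7))) :
    ∃ c t v a : G, Types z c t v a := by
  classical
  obtain ⟨b, F⟩ := exists_five_of_dat D
  obtain ⟨x, S⟩ := F.exists_split h₀ hne
  obtain ⟨B₀⟩ := exists_base D h₀ hne
  obtain ⟨D', hQ, B, hB⟩ := exists_good B₀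
  obtain ⟨Su⟩ := B.exists_pr basis_mem.1 basis_mem.2.1
  obtain ⟨St⟩ := B.exists_pr basis_mem.2.2.2.2.2.2.1 basis_mem.2.2.2.2.2.2.2.1
  obtain ⟨hK, hdec, w, r, r', a, u, v, y, W⟩ := exists_wit h₀ hne F S
  have Cl := exists_cls hQ St Su hB (centralizer_le St Su hB)
  obtain ⟨⟨f, N⟩, -⟩ := w_part F S St Su hB hK Cl W
  obtain ⟨e⟩ := hV F S hK hdec Cl W N
  obtain ⟨eK⟩ := hK
  haveI : Fact (Nat.Prime 2) := ⟨Nat.prime_two⟩
  obtain ⟨k, hk⟩ := exists_prime_orderOf_dvd_card' (G := ↥(compl b x)) 2 (by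
    rw [Nat.card_congr eK.toEquiv, nat_card_alternatingGroup, Nat.card_fin]; decide)
  set t0 : G := (k : G)
  have ht0 : orderOf t0 = 2 := by rw [Subgroup.orderOf_coe, hk]
  obtain ⟨p, hp, hpfix⟩ := N.five t0 k.2
  have hpo : orderOf p = 2 := by rw [← orderOf_injective f N.inj, hp, ht0]
  have hp4 : (p : Equiv.Perm (Fin 9)).support.card = 4 :=
    support_four p.2 (by rw [Subgroup.orderOf_coe, hpo]) hpfix
  have hconj : IsConj St.el t0 := hp ▸ N.dbl p (by
    rw [← pow_two, ← hpo, pow_orderOf_eq_one]) hp4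
  have hvC : v ∈ centralizer (zpowers v : Set G) := mem_centralizer_iff.2 fun g ⟨i, hi⟩ => by
    rw [← hi]; exact ((Commute.refl v).zpow_left i).eq
  have htv : t0 * v = v * t0 := mem_centralizer_iff.1 W.memv t0 k.2
  have htC : t0 ∈ centralizer (zpowers v : Set G) := mem_centralizer_iff.2 fun g ⟨i, hi⟩ => by
    rw [← hi]; exact ((show Commute v t0 from htv.symm).zpow_left i).eq
  set p0 := e ⟨t0, htC⟩ with hp0
  have hp0o : orderOf p0 = 2 := by rw [hp0, e.orderOf_eq, Subgroup.orderOf_mk, ht0]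
  have hfst : p0.1 = 1 := by
    refine orderOf_eq_one_iff.1 (Nat.eq_one_of_dvd_coprimes (show Nat.Coprime 2 7 by norm_num)
      ((orderOf_map_dvd (MonoidHom.fst _ _) p0).trans (dvd_of_eq hp0o)) ?_)
    exact (_root_.orderOf_dvd_natCard _).trans (by rw [Nat.card_congr Multiplicative.toAdd, Nat.card_zmod])
  have hso : orderOf ((p0.2 : Equiv.Perm (Fin 7))) = 2 := by
    rw [Subgroup.orderOf_coe, ← hp0o, Prod.orderOf, hfst, orderOf_one, Nat.lcm_one_left]
  obtain ⟨n, hn⟩ := Equiv.Perm.cycleType_prime_order (hso.symm ▸ Nat.prime_two : (orderOf (p0.2 : Equiv.Perm (Fin 7))).Prime)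
  rw [hso] at hn
  have hn1 : n = 1 := by
    have h1 := (p0.2 : Equiv.Perm (Fin 7)).sum_cycleType
    have h2 := Finset.card_le_univ (p0.2 : Equiv.Perm (Fin 7)).support
    rw [hn, Multiset.sum_replicate, smul_eq_mul] at h1
    rw [Fintype.card_fin] at h2
    have h3 := p0.2.2
    rw [Equiv.Perm.mem_alternatingGroup, Equiv.Perm.sign_of_cycleType, hn, Multiset.sum_replicate,
      Multiset.card_replicate, smul_eq_mul] at h3
    by_contra hne
    have : n = 0 ∨ n = 2 := by omega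
    rcases this with rfl | rfl <;> norm_num at h3
  obtain ⟨h, hh⟩ := isConj_iff.1 (Equiv.Perm.isConj_iff_cycleType_eq.2
    (show (p0.2 : Equiv.Perm (Fin 7)).cycleType = s0.cycleType by rw [hn, hn1, a0_facts.2.2.2.2]; rfl))
  have hha : h⁻¹ * a0 * h ∈ alternatingGroup (Fin 7) := by
    rw [Equiv.Perm.mem_alternatingGroup, map_mul, map_mul, a0_facts.2.1, mul_one, ← map_mul, inv_mul_cancel, map_one]
  set a3 : G := (e.symm (1, ⟨h⁻¹ * a0 * h, hha⟩) : G)
  have hcore : ∀ g (hg : g ∈ centralizer (zpowers v : Set G)), g * t0 = t0 * g ↔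
      (h * ((e ⟨g, hg⟩).2 : Equiv.Perm (Fin 7)) * h⁻¹) * s0 = s0 * (h * ((e ⟨g, hg⟩).2 : Equiv.Perm (Fin 7)) * h⁻¹) := by
    intro g hg
    have e1 : g * t0 = t0 * g ↔ e ⟨g, hg⟩ * p0 = p0 * e ⟨g, hg⟩ := by
      rw [hp0, ← map_mul, ← map_mul, e.injective.eq_iff, Subtype.ext_iff]; rfl
    rw [e1, Prod.ext_iff]
    refine (and_iff_right (mul_comm (e ⟨g, hg⟩).1 p0.1)).trans ?_
    rw [Subtype.ext_iff, ← hh]
    show ((e ⟨g, hg⟩).2 : Equiv.Perm (Fin 7)) * (p0.2 : Equiv.Perm (Fin 7)) =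
      (p0.2 : Equiv.Perm (Fin 7)) * ((e ⟨g, hg⟩).2 : Equiv.Perm (Fin 7)) ↔ _
    rw [show ∀ q q' : Equiv.Perm (Fin 7), h * q * h⁻¹ * (h * q' * h⁻¹) = h * (q * q') * h⁻¹ from fun q q' => by group,
      show ∀ q q' : Equiv.Perm (Fin 7), h * q * h⁻¹ * (h * q' * h⁻¹) = h * (q * q') * h⁻¹ from fun q q' => by group,
      mul_left_inj, mul_right_inj]
  have ha3C : a3 ∈ centralizer (zpowers v : Set G) := SetLike.coe_mem _
  have ha3e : e ⟨a3, ha3C⟩ = (1, ⟨h⁻¹ * a0 * h, hha⟩) := e.apply_symm_apply _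
  have hmemC : ∀ {g : G}, g * v = v * g → g ∈ centralizer (zpowers v : Set G) := fun {g} hg =>
    mem_centralizer_iff.2 fun q ⟨i, hi⟩ => by rw [← hi]; exact ((show Commute v g from hg.symm).zpow_left i).eq
  refine ⟨phi B 40, t0, v, a3,
    { cases := fun g hg => (Cl.cases g hg).imp_right (Or.imp_right fun h' => hconj.symm.trans h')
      not_zc := Cl.not_zc
      not_zt := fun h' => Cl.not_zt (h'.trans hconj.symm)
      not_ct := fun h' => Cl.not_ct (h'.trans hconj.symm)
      seven := Cl.seven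
      sylow := fun h' => Cl.not_zt ((conj_of_dvd D ht0 h').trans hconj.symm)
      ord_z := Extra2.orderOf_gen D.pre.gen
      ord_c := Cl.ord_c
      ord_t := ht0
      ord_v := W.ordv
      ord_a := ?_
      comm_vt := htv.symm
      comm_at := ?_
      comm_va := mem_centralizer_iff.1 ha3C v (mem_zpowers v)
      card_vt := ?_
      sq := ?_ }⟩
  · rw [show orderOf a3 = orderOf (⟨a3, ha3C⟩ : centralizer (zpowers v : Set G)) from
      Subgroup.orderOf_coe (⟨a3, ha3C⟩ : centralizer (zpowers v : Set G)), ← e.orderOf_eq, ha3e, Prod.orderOf, orderOf_one, Nat.lcm_one_left,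
      ← Subgroup.orderOf_coe]
    have : orderOf a0 = 3 := by
      haveI : Fact (Nat.Prime 3) := ⟨Nat.prime_three⟩
      exact orderOf_eq_prime a0_facts.2.2.1 a0_facts.2.2.2.1
    rw [← this]
    exact MulEquiv.orderOf_eq (MulAut.conj h⁻¹) a0 ▸ by simp [MulAut.conj_apply]
  · rw [hcore a3 ha3C, ha3e]
    show h * (h⁻¹ * a0 * h) * h⁻¹ * s0 = s0 * (h * (h⁻¹ * a0 * h) * h⁻¹)
    rw [show h * (h⁻¹ * a0 * h) * h⁻¹ = a0 by group, a0_facts.1]
  · let H := centralizer (zpowers v : Set G)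
    let T := (Finset.univ.filter fun g : Equiv.Perm (Fin 7) => g * s0 = s0 * g ∧ Equiv.Perm.sign g = 1)
    have hmem : ∀ g : G, g ∈ centralizer ({t0, v} : Set G) ↔ g * t0 = t0 * g ∧ g * v = v * g := fun g => by
      rw [mem_centralizer_iff]; simp [eq_comm]
    have hsign : ∀ q : alternatingGroup (Fin 7), Equiv.Perm.sign (h * (q : Equiv.Perm (Fin 7)) * h⁻¹) = 1 := fun q => by
      rw [map_mul, map_mul, Equiv.Perm.mem_alternatingGroup.1 q.2, mul_one, ← map_mul, mul_inv_cancel, map_one]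
    let E : ↥(centralizer ({t0, v} : Set G)) ≃ Multiplicative (ZMod 7) × T :=
      { toFun := fun g => ((e ⟨g, hmemC ((hmem g).1 g.2).2⟩).1,
          ⟨h * ((e ⟨g, hmemC ((hmem g).1 g.2).2⟩).2 : Equiv.Perm (Fin 7)) * h⁻¹, Finset.mem_filter.2
            ⟨Finset.mem_univ _, (hcore _ _).1 ((hmem g).1 g.2).1, hsign _⟩⟩)
        invFun := fun x => ⟨(e.symm (x.1, ⟨h⁻¹ * x.2.1 * h, by
            rw [Equiv.Perm.mem_alternatingGroup, map_mul, map_mul, (Finset.mem_filter.1 x.2.2).2.2, mul_one,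
              ← map_mul, inv_mul_cancel, map_one]⟩) : G), (hmem _).2
          ⟨(hcore _ (SetLike.coe_mem _)).2 (by
            rw [Subtype.coe_eta, e.apply_symm_apply]
            show h * (h⁻¹ * x.2.1 * h) * h⁻¹ * s0 = s0 * (h * (h⁻¹ * x.2.1 * h) * h⁻¹)
            rw [show h * (h⁻¹ * x.2.1 * h) * h⁻¹ = x.2.1 by group]
            exact (Finset.mem_filter.1 x.2.2).2.1),
          (mem_centralizer_iff.1 (SetLike.coe_mem _) v (mem_zpowers v)).symm⟩⟩
        left_inv := fun g => by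
          refine Subtype.ext ?_
          show ((e.symm _ : H) : G) = ((⟨(g : G), hmemC ((hmem g).1 g.2).2⟩ : H) : G)
          refine congrArg Subtype.val (e.symm_apply_eq.2 ?_)
          exact Prod.ext rfl (Subtype.ext (by simp [mul_assoc]))
        right_inv := fun x => by
          simp only [Subtype.coe_eta, e.apply_symm_apply]
          exact Prod.ext rfl (Subtype.ext (by simp [mul_assoc])) }
    rw [Nat.card_congr E, Nat.card_prod, Nat.card_congr Multiplicative.toAdd, Nat.card_zmod,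
      Nat.card_eq_fintype_card, Fintype.card_coe, seven_card]
  · intro g gt gv ga g4
    set q := e ⟨g, hmemC gv⟩ with hq
    have hq4 : q ^ 4 = 1 := by
      rw [hq, ← map_pow, show (⟨g, hmemC gv⟩ : centralizer (zpowers v : Set G)) ^ 4 = 1 from
        Subtype.ext (by rw [SubmonoidClass.coe_pow]; exact g4), map_one]
    have h1 : q.1 = 1 := by
      refine orderOf_eq_one_iff.1 (Nat.eq_one_of_dvd_coprimes (show Nat.Coprime 4 7 by norm_num)
        (orderOf_dvd_of_pow_eq_one (by rw [← Prod.pow_fst, hq4, Prod.fst_one])) ?_)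
      exact (_root_.orderOf_dvd_natCard _).trans (by rw [Nat.card_congr Multiplicative.toAdd, Nat.card_zmod])
    have hqs : (h * (q.2 : Equiv.Perm (Fin 7)) * h⁻¹) * s0 = s0 * (h * (q.2 : Equiv.Perm (Fin 7)) * h⁻¹) :=
      (hcore g (hmemC gv)).1 gt
    have hqa : (h * (q.2 : Equiv.Perm (Fin 7)) * h⁻¹) * a0 = a0 * (h * (q.2 : Equiv.Perm (Fin 7)) * h⁻¹) := by
      have e1 : q * e ⟨a3, ha3C⟩ = e ⟨a3, ha3C⟩ * q := by
        rw [hq, ← map_mul, ← map_mul]
        exact congrArg e (Subtype.ext ga)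
      rw [ha3e] at e1
      have e2 : (q.2 : Equiv.Perm (Fin 7)) * (h⁻¹ * a0 * h) = h⁻¹ * a0 * h * (q.2 : Equiv.Perm (Fin 7)) :=
        congrArg (fun x : Multiplicative (ZMod 7) × alternatingGroup (Fin 7) => (x.2 : Equiv.Perm (Fin 7))) e1
      calc h * (q.2 : Equiv.Perm (Fin 7)) * h⁻¹ * a0 = h * ((q.2 : Equiv.Perm (Fin 7)) * (h⁻¹ * a0 * h)) * h⁻¹ := by
            group
        _ = h * (h⁻¹ * a0 * h * (q.2 : Equiv.Perm (Fin 7))) * h⁻¹ := by rw [e2]
        _ = a0 * (h * (q.2 : Equiv.Perm (Fin 7)) * h⁻¹) := by group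
    have hqe : Equiv.Perm.sign (h * (q.2 : Equiv.Perm (Fin 7)) * h⁻¹) = 1 := by
      rw [map_mul, map_mul, Equiv.Perm.mem_alternatingGroup.1 q.2.2, mul_one, ← map_mul, mul_inv_cancel, map_one]
    have h24 : (q.2 : Equiv.Perm (Fin 7)) ^ 4 = 1 := by
      rw [← SubmonoidClass.coe_pow, ← Prod.pow_snd, hq4]; rfl
    have h22 := seven_sq _ hqs hqe hqa (by
      calc h * (q.2 : Equiv.Perm (Fin 7)) * h⁻¹ * (h * (q.2 : Equiv.Perm (Fin 7)) * h⁻¹) *
            (h * (q.2 : Equiv.Perm (Fin 7)) * h⁻¹ * (h * (q.2 : Equiv.Perm (Fin 7)) * h⁻¹)) =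
            h * ((q.2 : Equiv.Perm (Fin 7)) * q.2 * q.2 * q.2) * h⁻¹ := by group
        _ = 1 := by rw [show (q.2 : Equiv.Perm (Fin 7)) * q.2 * q.2 * q.2 = (q.2 : Equiv.Perm (Fin 7)) ^ 4 by
              rw [pow_succ, pow_succ, pow_succ, pow_one], h24, mul_one, mul_inv_cancel])
    have hsq : (q.2 : Equiv.Perm (Fin 7)) * (q.2 : Equiv.Perm (Fin 7)) = 1 := by
      calc (q.2 : Equiv.Perm (Fin 7)) * (q.2 : Equiv.Perm (Fin 7)) =
            h⁻¹ * (h * (q.2 : Equiv.Perm (Fin 7)) * h⁻¹ * (h * (q.2 : Equiv.Perm (Fin 7)) * h⁻¹)) * h := by group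
        _ = 1 := by rw [h22]; group
    have hq2 : q ^ 2 = 1 := Prod.ext (by rw [Prod.pow_fst, h1, one_pow]; rfl)
      (Subtype.ext (by rw [Prod.pow_snd, pow_two, Subgroup.coe_mul, hsq]; rfl))
    have hfin : (⟨g, hmemC gv⟩ : centralizer (zpowers v : Set G)) ^ 2 = 1 := e.injective (by
      rw [map_pow, ← hq, hq2, map_one])
    simpa using congrArg Subtype.val hfin

end CfsgLib.Co1Comp
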