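import Cfsg.Agent.Co1Comp.Signs
import Cfsg.Agent.Co1Comp.Types
import Cfsg.Agent.OutConway.Co1
import Cfsg.Agent.Co1Invol.Setting
import Cfsg.Agent.Golay.NormalForm

/-!
The classes of involutions of the automorphism group of the lattice modulo its centre, by representatives.
-/

set_option autoImplicit false
set_option maxRecDepth 100000
set_option linter.style.haveILetI false
set_option linter.unusedSectionVars false

namespace CfsgLib.Co1Comp

open Cfsg CfsgLib CfsgLib.Golay CfsgLib.Leech Subgroup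
open CfsgLib.OutConway.One (pr pr_eq pr_eq_one pr_surj comm_of_odd neg_comm neg_sq)
open CfsgLib.Golay.Cert (genOK ofList toList_ofList powL toList_coe_injective toList_pow)

attribute [local irreducible] CfsgLib.Leech.shortVecs CfsgLib.Leech.halfTable CfsgLib.Leech.quarterTable

instance : Finite Co0 := Nat.finite_of_card_ne_zero (by rw [card_Co0]; norm_num)
instance : Finite Spor.Co1 := Finite.of_surjective pr pr_surj

/-- The sign change on the base octad. -/
def uO : Co0 := signAut wO
/-- The sign change on the dodecad. -/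
def uD : Co0 := signAut wD
/-- An element squaring to the central one. -/
noncomputable def aB : Co0 := monoAut (wB, ofList fpfL)
/-- The element of order seven fixing the trio. -/
noncomputable def x7 : Co0 := permHom (ofList sevenL)

theorem fpf_sq : powL fpfL 2 = List.range 24 := by decide +kernel

theorem ofList_pow {L : List ℕ} (hL : genOK L = true) {n : ℕ} (h : powL L n = List.range 24) :
    (ofList L : M24) ^ n = 1 := by
  refine toList_coe_injective ?_
  show toList ((ofList L : M24) ^ n).1 = toList (1 : M24).1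
  rw [SubgroupClass.coe_pow, toList_pow, toList_ofList hL, h]
  exact toList_one.symm

theorem uO_sq : uO * uO = 1 := by
  unfold uO
  nth_rewrite 2 [← signAut_inv wO]
  exact mul_inv_cancel _

theorem uD_sq : uD * uD = 1 := by
  unfold uD
  nth_rewrite 2 [← signAut_inv wD]
  exact mul_inv_cancel _

theorem sign_A : signAut wA = negAut := by rw [wA_eq, signAut_one]

theorem sign_add_A (w : golayCode) : signAut (w + wA) = negAut * signAut w := by
  rw [← signAut_mul, sign_A, neg_comm]

theorem aB_conj : signAut wB * aB * (signAut wB)⁻¹ = negAut * aB := by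
  have h := sends_smul perms_ok.1.2.2.2 sends_ok.2.2.2
  rw [mul_inv_eq_iff_eq_mul, sign_add_A] at h
  unfold aB monoAut
  dsimp only
  rw [← mul_assoc, ← mul_assoc, signAut_inv, show signAut wB * signAut wB = 1 by
    nth_rewrite 2 [← signAut_inv wB]; exact mul_inv_cancel _, one_mul, h]

theorem aB_sq : aB * aB = negAut := by
  have h := sends_smul perms_ok.1.2.2.2 sends_ok.2.2.2
  rw [mul_inv_eq_iff_eq_mul, sign_add_A] at h
  have h2 : permHom (ofList fpfL) * permHom (ofList fpfL) = 1 := by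
    rw [← map_mul, ← pow_two, ofList_pow perms_ok.1.2.2.2 fpf_sq, map_one]
  have h3 : signAut wB * signAut wB = 1 := by
    nth_rewrite 2 [← signAut_inv wB]; exact mul_inv_cancel _
  unfold aB monoAut
  dsimp only
  calc signAut wB * permHom (ofList fpfL) * (signAut wB * permHom (ofList fpfL))
      = signAut wB * (permHom (ofList fpfL) * signAut wB) * permHom (ofList fpfL) := by simp only [mul_assoc]
    _ = signAut wB * (negAut * signAut wB * permHom (ofList fpfL)) * permHom (ofList fpfL) := by rw [h]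
    _ = signAut wB * (negAut * signAut wB) * (permHom (ofList fpfL) * permHom (ofList fpfL)) := by
      simp only [mul_assoc]
    _ = negAut := by rw [h2, mul_one, neg_comm, ← mul_assoc, h3, one_mul]

theorem conj_lift {a b : Co0} (h : IsConj (pr a) (pr b)) : IsConj a b ∨ IsConj a (negAut * b) := by
  obtain ⟨c, hc⟩ := isConj_iff.1 h
  obtain ⟨k, rfl⟩ := pr_surj c
  rw [← map_mul, ← map_inv, ← map_mul, pr_eq] at hc
  exact hc.imp (fun e => isConj_iff.2 ⟨k, e⟩) fun e => isConj_iff.2 ⟨k, e⟩

theorem flip_uD : IsConj uD (negAut * uD) :=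
  isConj_iff.2 ⟨permHom (ofList flipL), by
    rw [uD, sends_smul perms_ok.1.2.2.1 sends_ok.2.2.1, sign_add_A]⟩

theorem flip_aB : IsConj aB (negAut * aB) := isConj_iff.2 ⟨_, aB_conj⟩

theorem not_OD : ¬ IsConj (pr uO) (pr uD) := fun h => by
  rcases conj_lift h with h | h
  · exact absurd (wt_of_conj h) (by rw [words_ok.1.1, words_ok.1.2.2.2.2.1]; norm_num)
  · exact absurd (wt_of_conj (h.trans flip_uD.symm)) (by rw [words_ok.1.1, words_ok.1.2.2.2.2.1]; norm_num)

theorem not_B {u : Co0} (hu : u * u = 1) : ¬ IsConj (pr u) (pr aB) := fun h => by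
  have key : ∀ b, b * b = negAut → ¬ IsConj u b := fun b hb hub => by
    obtain ⟨k, rfl⟩ := isConj_iff.1 hub
    refine Leech.negAut_ne_one ?_
    rw [← hb, show k * u * k⁻¹ * (k * u * k⁻¹) = k * (u * u) * k⁻¹ by group, hu, mul_one, mul_inv_cancel]
  rcases conj_lift h with h | h
  · exact key _ aB_sq h
  · refine key _ ?_ h
    rw [show negAut * aB * (negAut * aB) = negAut * (aB * negAut) * aB by simp only [mul_assoc], ← neg_comm,
      ← mul_assoc negAut, neg_sq, one_mul, aB_sq]

theorem pr_ne_one {w : golayCode} (h : wtW w = 8 ∨ wtW w = 12) : pr (signAut w) ≠ 1 := by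
  intro e
  rcases pr_eq_one.1 e with e | e
  · have := wt_of_conj (w' := 0) (by rw [e, signAut_zero])
    rw [show wtW 0 = 0 by decide +kernel] at this
    omega
  · have := wt_of_conj (w' := wA) (by rw [e, sign_A])
    rw [show wtW wA = 24 by decide +kernel] at this
    omega

theorem order_pr {u : Co0} (h : pr (u * u) = 1) (h1 : pr u ≠ 1) : orderOf (pr u) = 2 :=
  orderOf_eq_prime (hp := ⟨Nat.prime_two⟩) (by rw [pow_two, ← map_mul, h]) h1

theorem order_uO : orderOf (pr uO) = 2 :=
  order_pr (by rw [uO_sq, map_one]) (pr_ne_one (Or.inl words_ok.1.1))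

theorem order_uD : orderOf (pr uD) = 2 :=
  order_pr (by rw [uD_sq, map_one]) (pr_ne_one (Or.inr words_ok.1.2.2.2.2.1))

theorem order_aB : orderOf (pr aB) = 2 := by
  refine order_pr (by rw [aB_sq, pr_eq_one]; exact Or.inr rfl) fun e => ?_
  rcases pr_eq_one.1 e with e | e
  · exact Leech.negAut_ne_one (by rw [← aB_sq, e, one_mul])
  · exact Leech.negAut_ne_one (by rw [← aB_sq, e, neg_sq])

/-- A lift of odd order. -/
theorem exists_odd_lift {g : Spor.Co1} {p : ℕ} (hp : Odd p) (hg : g ^ p = 1) :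
    ∃ u : Co0, pr u = g ∧ u ^ p = 1 := by
  obtain ⟨u, rfl⟩ := pr_surj g
  rw [← map_pow, pr_eq_one] at hg
  rcases hg with h | h
  · exact ⟨u, rfl, h⟩
  · refine ⟨negAut * u, ?_, ?_⟩
    · rw [map_mul, pr_eq_one.2 (Or.inr rfl), one_mul]
    · obtain ⟨m, rfl⟩ := hp
      rw [(show Commute negAut u from neg_comm u).mul_pow, h, pow_succ, pow_mul, pow_two, neg_sq, one_pow, one_mul,
        neg_sq]

theorem not_seven_uD : ¬ 7 ∣ Nat.card ↥(centralizer ({pr uD} : Set Spor.Co1)) := fun h => by
  haveI : Fact (Nat.Prime 7) := ⟨by norm_num⟩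
  obtain ⟨⟨g, hg⟩, hgo⟩ := exists_prime_orderOf_dvd_card' 7 h
  rw [Subgroup.orderOf_mk] at hgo
  obtain ⟨u, rfl, hu⟩ := exists_odd_lift (p := 7) (by decide) (by rw [← hgo, pow_orderOf_eq_one])
  have hc := comm_of_odd (g := uD) (by decide : Odd 7) hu (mem_centralizer_singleton_iff.1 hg).symm
  rw [dod_no_seven (hc.symm) hu, map_one, orderOf_one] at hgo
  norm_num at hgo

theorem card_cent_conj {H : Type*} [Group H] {x y : H} (h : IsConj x y) :
    Nat.card ↥(centralizer ({x} : Set H)) = Nat.card ↥(centralizer ({y} : Set H)) := by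
  obtain ⟨k, rfl⟩ := isConj_iff.1 h
  refine Nat.card_congr (Equiv.subtypeEquiv (MulAut.conj k).toEquiv fun g => ?_)
  show g ∈ centralizer ({x} : Set H) ↔ k * g * k⁻¹ ∈ centralizer ({k * x * k⁻¹} : Set H)
  rw [mem_centralizer_singleton_iff, mem_centralizer_singleton_iff,
    show k * g * k⁻¹ * (k * x * k⁻¹) = k * (g * x) * k⁻¹ by group,
    show k * x * k⁻¹ * (k * g * k⁻¹) = k * (x * g) * k⁻¹ by group, mul_left_inj, mul_right_inj]

/-- The hypothesis on the centraliser of an element of order seven, for this group. -/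
def SevenHyp : Prop :=
  ∀ (z : Spor.Co1) (D : Co1Invol.Dat z) {g₀ : Spor.Co1} (_h₀ : g₀ * z * g₀⁻¹ ∈ D.Q) (_hne : g₀ * z * g₀⁻¹ ≠ z)
    {b x : Spor.Co1} (_F : Co1Five.Five D b) (_S : Co1Five.Split D b x)
    {A : Subgroup Spor.Co1} {c t : Spor.Co1}
    (_hK : Nonempty (↥(Co1Five.compl b x) ≃* ↥(alternatingGroup (Fin 5))))
    (_hdec : ∀ g ∈ centralizer ({b} : Set Spor.Co1),
      ∃ h ∈ centralizer (Co1Five.compl b x : Set Spor.Co1), ∃ i : ℤ, g = h * b ^ i)
    (_Cl : Co1Loc.Cls D A c t) {w r r' a u v y : Spor.Co1} (_W : Co1Loc.Wit D b x w r r' a u v y)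
    {f : ↥(alternatingGroup (Fin 9)) →* Spor.Co1} (_N : Co1Loc.Nine c t w a r (Co1Five.compl b x) f),
    Nonempty (↥(centralizer (zpowers v : Set Spor.Co1)) ≃* Multiplicative (ZMod 7) × alternatingGroup (Fin 7))

theorem exists_types (hV : SevenHyp) : ∃ c t v a : Spor.Co1, Types (pr uO) c t v a := by
  have hz : Co1Cent.zC = pr uO := rfl
  rw [← hz]
  obtain ⟨g, ⟨hq, hgQ⟩, hne⟩ := Co1Cent.weakly_closed_fails
  haveI := Co1Cent.finite_qp
  obtain ⟨D, hD⟩ := Co1Invol.exists_dat Co1Cent.orderOf_zC Co1Cent.qC Co1Cent.fstar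
    (LargeExtra.isExtraspecial_equiv Co1Cent.qEquiv Co1Cent.extraspecial_qp)
    (by rw [← Nat.card_congr Co1Cent.qEquiv.toEquiv, Co1Cent.card_qp]; norm_num)
    (by rw [← Quad.plusQ_coe]; exact Co1Cent.quotEquiv.trans (Quad.omegaEquiv _).symm)
  have h₀ : g * Co1Cent.zC * g⁻¹ ∈ D.Q := by rw [hD]; exact ⟨_, hgQ, rfl⟩
  exact types_of D h₀ hne (hV _ D h₀ hne)

/-- The representatives: classes and the data for the one of order four. -/
structure Reps (v a : Co0) : Prop where
  cover : ∀ g : Spor.Co1, orderOf g = 2 → IsConj (pr uO) g ∨ IsConj (pr uD) g ∨ IsConj (pr aB) g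
  sylow : ¬ Nat.card ↥(centralizer ({pr uO} : Set Spor.Co1)) ∣ Nat.card ↥(centralizer ({pr aB} : Set Spor.Co1))
  v7 : v ^ 7 = 1
  v_ne : v ≠ 1
  a3 : a ^ 3 = 1
  a_ne : a ≠ 1
  comm_vB : v * aB = aB * v
  comm_aB : a * aB = aB * a
  comm_va : v * a = a * v
  card_vt : Nat.card ↥(centralizer ({pr aB, pr v} : Set Spor.Co1)) = 168
  sq : ∀ g : Spor.Co1, g * pr aB = pr aB * g → g * pr v = pr v * g → g * pr a = pr a * g → g ^ 4 = 1 → g ^ 2 = 1

theorem exists_reps (hV : SevenHyp) : ∃ v a : Co0, Reps v a := by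
  classical
  obtain ⟨c, t, v₀, a₀, T⟩ := exists_types hV
  have hD : IsConj c (pr uD) := by
    rcases T.cases _ order_uD with h | h | h
    · exact absurd h not_OD
    · exact h
    · exfalso
      refine not_seven_uD ?_
      rw [← card_cent_conj h, ← T.ord_v, ← Subgroup.orderOf_mk v₀ (show v₀ ∈ centralizer ({t} : Set Spor.Co1) from
        mem_centralizer_singleton_iff.2 T.comm_vt)]
      exact _root_.orderOf_dvd_natCard _
  have hB : IsConj t (pr aB) := by
    rcases T.cases _ order_aB with h | h | h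
    · exact absurd h (not_B uO_sq)
    · exact absurd (hD.symm.trans h) (not_B uD_sq)
    · exact h
  obtain ⟨k, hk⟩ := isConj_iff.1 hB
  set v₁ := k * v₀ * k⁻¹ with hv₁
  set a₁ := k * a₀ * k⁻¹ with ha₁
  have hv7 : v₁ ^ 7 = 1 := by rw [hv₁, conj_pow, ← T.ord_v, pow_orderOf_eq_one, mul_one, mul_inv_cancel]
  have ha3 : a₁ ^ 3 = 1 := by rw [ha₁, conj_pow, ← T.ord_a, pow_orderOf_eq_one, mul_one, mul_inv_cancel]
  obtain ⟨v, hv, hv'⟩ := exists_odd_lift (p := 7) (by decide) hv7
  obtain ⟨a, ha, ha'⟩ := exists_odd_lift (p := 3) (by decide) ha3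
  have hcomm : ∀ {x y : Spor.Co1}, x * y = y * x → k * x * k⁻¹ * (k * y * k⁻¹) = k * y * k⁻¹ * (k * x * k⁻¹) :=
    fun {x y} e => by
      rw [show k * x * k⁻¹ * (k * y * k⁻¹) = k * (x * y) * k⁻¹ by group, e]; group
  have hvt : pr aB * pr v = pr v * pr aB := by rw [hv, ← hk]; exact (hcomm T.comm_vt).symm
  have hat : pr aB * pr a = pr a * pr aB := by rw [ha, ← hk]; exact (hcomm T.comm_at).symm
  have hva : pr v * pr a = pr a * pr v := by rw [hv, ha]; exact hcomm T.comm_va
  refine ⟨v, a,
    { cover := fun g hg => ?_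
      sylow := ?_
      v7 := hv'
      v_ne := fun e => ?_
      a3 := ha'
      a_ne := fun e => ?_
      comm_vB := (comm_of_odd (by decide : Odd 7) hv' hvt).symm
      comm_aB := (comm_of_odd (by decide : Odd 3) ha' hat).symm
      comm_va := comm_of_odd (by decide : Odd 3) ha' hva
      card_vt := ?_
      sq := fun g g1 g2 g3 g4 => ?_ }⟩
  · exact (T.cases g hg).imp_right (Or.imp (hD.symm.trans) (hB.symm.trans))
  · rw [← card_cent_conj hB]; exact T.sylow
  · rw [e, map_one, hv₁, eq_comm, conj_eq_one_iff] at hv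
    rw [← orderOf_eq_one_iff, T.ord_v] at hv
    norm_num at hv
  · rw [e, map_one, ha₁, eq_comm, conj_eq_one_iff] at ha
    rw [← orderOf_eq_one_iff, T.ord_a] at ha
    norm_num at ha
  · rw [← T.card_vt, hv, ← hk]
    refine (Nat.card_congr (Equiv.subtypeEquiv (MulAut.conj k).toEquiv fun g => ?_)).symm
    show g ∈ centralizer ({t, v₀} : Set Spor.Co1) ↔ k * g * k⁻¹ ∈ centralizer ({k * t * k⁻¹, k * v₀ * k⁻¹} : Set Spor.Co1)
    simp only [mem_centralizer_iff, Set.mem_insert_iff, Set.mem_singleton_iff, forall_eq_or_imp, forall_eq]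
    rw [show k * t * k⁻¹ * (k * g * k⁻¹) = k * (t * g) * k⁻¹ by group,
      show k * g * k⁻¹ * (k * t * k⁻¹) = k * (g * t) * k⁻¹ by group,
      show k * v₀ * k⁻¹ * (k * g * k⁻¹) = k * (v₀ * g) * k⁻¹ by group,
      show k * g * k⁻¹ * (k * v₀ * k⁻¹) = k * (g * v₀) * k⁻¹ by group]
    simp only [mul_left_inj, mul_right_inj]
  · have back : ∀ {x : Spor.Co1}, g * (k * x * k⁻¹) = k * x * k⁻¹ * g → k⁻¹ * g * k * x = x * (k⁻¹ * g * k) :=
      fun {x} e => by
        rw [show k⁻¹ * g * k * x = k⁻¹ * (g * (k * x * k⁻¹)) * k by group, e]; group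
    have h := T.sq (k⁻¹ * g * k) (back (by rw [hk]; exact g1)) (back (by rw [← hv₁, ← hv]; exact g2))
      (back (by rw [← ha₁, ← ha]; exact g3))
      (by rw [show k⁻¹ * g * k = MulAut.conj k⁻¹ g by simp, ← map_pow, g4, map_one])
    rw [show k⁻¹ * g * k = MulAut.conj k⁻¹ g by simp, ← map_pow] at h
    exact (MulEquiv.map_eq_one_iff _).1 h

theorem neg_mul_sq {u : Co0} (h : u * u = 1) : negAut * u * (negAut * u) = 1 := by
  rw [show negAut * u * (negAut * u) = negAut * (u * negAut) * u by simp only [mul_assoc], ← neg_comm,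
    ← mul_assoc negAut, neg_sq, one_mul, h]

theorem pr_neg (u : Co0) : pr (negAut * u) = pr u := by rw [map_mul, pr_eq_one.2 (Or.inr rfl), one_mul]

theorem Reps.cover_sq_one {v a : Co0} (R : Reps v a) {g : Co0} (h1 : pr g ≠ 1) (hg : g * g = 1) :
    IsConj g uO ∨ IsConj g (negAut * uO) ∨ IsConj g uD := by
  rcases R.cover _ (order_pr (by rw [hg, map_one]) h1) with h | h | h
  · exact (conj_lift h.symm).imp_right Or.inl
  · exact Or.inr (Or.inr ((conj_lift h.symm).elim id fun e => e.trans flip_uD.symm))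
  · exact absurd h.symm (not_B hg)

theorem Reps.cover_sq_neg {v a : Co0} (R : Reps v a) {g : Co0} (hg : g * g = negAut) : IsConj g aB := by
  have h1 : pr g ≠ 1 := fun e => by
    rcases pr_eq_one.1 e with e | e
    · exact Leech.negAut_ne_one (by rw [← hg, e, one_mul])
    · exact Leech.negAut_ne_one (by rw [← hg, e, neg_sq])
  have hne : ∀ {u : Co0}, u * u = 1 → ¬ IsConj g u := fun {u} hu h => by
    obtain ⟨k, hk⟩ := isConj_iff.1 h
    refine Leech.negAut_ne_one ?_
    rw [← hu, ← hk, show k * g * k⁻¹ * (k * g * k⁻¹) = k * (g * g) * k⁻¹ by group, hg, ← neg_comm,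
      mul_inv_cancel_right]
  rcases R.cover _ (order_pr (by rw [hg, pr_eq_one]; exact Or.inr rfl) h1) with h | h | h
  · exact ((conj_lift h.symm).elim (hne uO_sq) (hne (neg_mul_sq uO_sq))).elim
  · exact ((conj_lift h.symm).elim (hne uD_sq) (hne (neg_mul_sq uD_sq))).elim
  · exact (conj_lift h.symm).elim id fun e => e.trans flip_aB.symm

theorem not_O_negO : ¬ IsConj uO (negAut * uO) := by
  unfold uO
  rw [← sign_add_A]
  intro h
  exact absurd (wt_of_conj h) (by decide +kernel)

theorem not_D_O : ¬ IsConj uD uO := fun h => not_OD (pr.map_isConj h.symm)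

theorem not_D_negO : ¬ IsConj uD (negAut * uO) := fun h =>
  not_OD (by have := pr.map_isConj h.symm; rwa [pr_neg] at this)

theorem Reps.conj_of_wt {v a : Co0} (R : Reps v a) {w : golayCode} (h : wtW w = 8) : IsConj (signAut w) uO := by
  rcases R.cover_sq_one (pr_ne_one (Or.inl h))
    (by nth_rewrite 2 [← signAut_inv w]; exact mul_inv_cancel _) with e | e | e
  · exact e
  · rw [uO, ← sign_add_A] at e
    have := wt_of_conj e
    rw [h, show wtW (wO + wA) = 16 by decide +kernel] at this
    norm_num at this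
  · have := wt_of_conj e
    rw [h, words_ok.1.2.2.2.2.1] at this
    norm_num at this

theorem x7_pow : x7 ^ 7 = 1 := by
  rw [x7, ← map_pow, ofList_pow perms_ok.1.1 perms_ok.2.1, map_one]

theorem x7_ne : x7 ≠ 1 := fun e => by
  have h : monoAut (0, ofList sevenL) = monoAut (0, 1) := by
    rw [← permHom_eq_monoAut, ← permHom_eq_monoAut, map_one]; exact e
  have h2 := congrArg (fun g : M24 => Golay.toList (g : Equiv.Perm GolayPt)) (Prod.ext_iff.1 (monoAut_injective h)).2
  simp only [toList_ofList perms_ok.1.1] at h2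
  exact perms_ok.2.2 (h2.trans (show Golay.toList ((1 : M24) : Equiv.Perm GolayPt) = List.range 24 by decide +kernel))

theorem comm_of_sends {L : List ℕ} (hL : genOK L = true) {w : golayCode} (h : sends L w w) :
    Commute (permHom (ofList L)) (signAut w) := mul_inv_eq_iff_eq_mul.1 (sends_smul hL h)

theorem x7_O : Commute x7 uO := comm_of_sends perms_ok.1.1 sends_ok.1.1

theorem x7_O2 : Commute x7 (signAut wO2) := comm_of_sends perms_ok.1.1 sends_ok.1.2.2

theorem sign_comm (w w' : golayCode) : Commute (signAut w) (signAut w') := by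
  show signAut w * signAut w' = signAut w' * signAut w
  rw [signAut_mul, signAut_mul, add_comm]

/-- The three sign changes of the trio. -/
theorem trio : negAut * signAut wO2 * uO = signAut wO1 := by
  unfold uO
  rw [← sign_A, signAut_mul, signAut_mul]
  congr 1
  exact Subtype.ext (by decide +kernel)

end CfsgLib.Co1Comp
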