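import Cfsg.Agent.Co1Comp.Frame

/-!
No conjugate of the central involution is the product of an element of order four of the image with one of its
centraliser.
-/

set_option autoImplicit false
set_option maxRecDepth 100000
set_option linter.style.haveILetI false
set_option linter.unusedSectionVars false

namespace CfsgLib.Co1Comp

open Cfsg CfsgLib CfsgLib.Leech Subgroup
open CfsgLib.OutConway.One (pr pr_eq pr_eq_one pr_surj comm_of_odd neg_comm)

attribute [local irreducible] CfsgLib.Leech.shortVecs CfsgLib.Leech.halfTable CfsgLib.Leech.quarterTable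

variable {G : Type*} [Group G] [Finite G] {f : Co0 →* G}

theorem mem_pair {x a b : G} : x ∈ centralizer ({a, b} : Set G) ↔ x * a = a * x ∧ x * b = b * x := by
  rw [mem_centralizer_iff]
  refine ⟨fun h => ⟨(h a (Or.inl rfl)).symm, (h b (Or.inr rfl)).symm⟩, ?_⟩
  rintro ⟨h1, h2⟩ q (rfl | rfl)
  exacts [h1.symm, h2.symm]

theorem comm_conj (u x y : G) :
    u * x * u⁻¹ * (u * y * u⁻¹) = u * y * u⁻¹ * (u * x * u⁻¹) ↔ x * y = y * x := by
  rw [conj_mul, conj_mul, mul_left_inj, mul_right_inj]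

theorem card_pair_conj {g a b : G} :
    Nat.card ↥(centralizer ({g * a * g⁻¹, g * b * g⁻¹} : Set G)) = Nat.card ↥(centralizer ({a, b} : Set G)) := by
  refine (Nat.card_congr (Equiv.subtypeEquiv (MulAut.conj g).toEquiv fun x => ?_)).symm
  show x ∈ centralizer ({a, b} : Set G) ↔ g * x * g⁻¹ ∈ centralizer ({g * a * g⁻¹, g * b * g⁻¹} : Set G)
  rw [mem_pair, mem_pair, show g * x * g⁻¹ * (g * a * g⁻¹) = g * (x * a) * g⁻¹ by group,
    show g * a * g⁻¹ * (g * x * g⁻¹) = g * (a * x) * g⁻¹ by group,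
    show g * x * g⁻¹ * (g * b * g⁻¹) = g * (x * b) * g⁻¹ by group,
    show g * b * g⁻¹ * (g * x * g⁻¹) = g * (b * x) * g⁻¹ by group]
  simp only [mul_left_inj, mul_right_inj]

/-- An element of odd order normalising a cyclic group of order four centralises it. -/
theorem odd_comm {x c z : G} (hx : Odd (orderOf x)) (hc : c * c = z) (hz : z * z = 1)
    (hxz : x * z = z * x) (h : x * c * x⁻¹ = c ∨ x * c * x⁻¹ = c * z) : x * c = c * x := by
  rcases h with h | h
  · exact mul_inv_eq_iff_eq_mul.1 h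
  · have h2 : Commute (x * x) c := by
      refine mul_inv_eq_iff_eq_mul.1 ?_
      calc x * x * c * (x * x)⁻¹ = x * (x * c * x⁻¹) * x⁻¹ := by group
        _ = x * (c * z) * x⁻¹ := by rw [h]
        _ = x * c * x⁻¹ * (x * z * x⁻¹) := by group
        _ = c * z * z := by rw [h, hxz, mul_inv_cancel_right]
        _ = c := by rw [mul_assoc, hz, mul_one]
    obtain ⟨m, hm⟩ := hx
    have e : x = (x * x) ^ (m + 1) := by
      rw [← pow_two, ← pow_mul, show 2 * (m + 1) = orderOf x + 1 by omega, pow_succ, pow_orderOf_eq_one, one_mul]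
    rw [e]
    exact (h2.pow_left (m + 1)).eq

variable (X : Ctx f)
include X

/-- A subgroup on which a given element is adjusted to normalise a large subgroup of prime power order. -/
theorem Ctx.adjust {p : ℕ} [Fact p.Prime] {L : Subgroup G} (hL : L ≤ nT f) {K : Subgroup Spor.Co1}
    (hK : ∀ g : ↥(nT f), (g : G) ∈ L → X.pi g ∈ K) (hp2 : ¬ p ^ 2 ∣ Nat.card K) {x : Co0} (hxL : f x ∈ L)
    (hx : x ^ p = 1) (hx1 : pr x ≠ 1) {h : G} (hh : ∀ g, g ∈ L ↔ h * g * h⁻¹ ∈ L) :
    ∃ P ≤ L, f x ∈ P ∧ IsPGroup p P ∧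
      (∀ y : Co0, y * x = x * y → f y ∈ centralizer (P : Set G)) ∧
      ∃ l ∈ L, ∀ g, g ∈ P ↔ l * h * g * (l * h)⁻¹ ∈ P := by
  obtain ⟨S₀⟩ : Nonempty (Sylow p ↥(L ⊓ cT f)) := inferInstance
  set Pc := (S₀ : Subgroup ↥(L ⊓ cT f)).map (L ⊓ cT f).subtype
  have hPc : Pc ≤ L ⊓ cT f := map_subtype_le _
  have hzp : IsPGroup p (zpowers (f x)) := by
    intro g
    obtain ⟨i, hi⟩ := mem_zpowers_iff.1 g.2
    refine ⟨1, Subtype.ext ?_⟩
    rw [pow_one, SubmonoidClass.coe_pow, ← hi, ← zpow_natCast (f x ^ i), ← zpow_mul, mul_comm, zpow_mul, zpow_natCast,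
      ← map_pow, hx, map_one, one_zpow]
    rfl
  have hnorm : zpowers (f x) ≤ normalizer (Pc : Set G) := by
    rw [zpowers_le]
    refine centralizer_le_normalizer _ (mem_centralizer_iff.2 fun c hc => (comm_cT x (hPc hc).2).symm)
  set P := zpowers (f x) ⊔ Pc
  have hPp : IsPGroup p P := hzp.to_sup_of_normal_right' (S₀.2.map _) hnorm
  have hPL : P ≤ L := sup_le (zpowers_le.2 hxL) (hPc.trans inf_le_left)
  have hPcard : ∀ n, p ^ n ∣ Nat.card L → p ^ n ∣ Nat.card P := by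
    intro n hn
    have h1 : p ∣ Nat.card ((P.subgroupOf (nT f)).map X.pi) := by
      have hm : pr x ∈ (P.subgroupOf (nT f)).map X.pi :=
        ⟨⟨f x, fa_mem_nT x⟩, mem_subgroupOf.2 (mem_sup_left (mem_zpowers _)), X.pi_f x⟩
      rw [← orderOf_eq_prime (p := p) (by rw [← map_pow, hx, map_one]) hx1,
        ← Subgroup.orderOf_mk (pr x) hm]
      exact _root_.orderOf_dvd_natCard _
    have h2 : Nat.card (S₀ : Subgroup ↥(L ⊓ cT f)) ∣ Nat.card ↥(P ⊓ cT f) := by
      rw [← Subgroup.card_map_of_injective (K := (S₀ : Subgroup ↥(L ⊓ cT f))) (L ⊓ cT f).subtype_injective]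
      exact card_dvd_of_le (le_inf le_sup_right (hPc.trans inf_le_right))
    refine dvd_trans ?_ ((mul_dvd_mul h1 h2).trans (X.card_split (hPL.trans hL)).dvd)
    rw [S₀.card_eq_multiplicity, ← pow_succ']
    refine Nat.pow_dvd_pow p ?_
    have hne : Nat.card K ≠ 0 := Nat.card_pos.ne'
    have h3 := ((Nat.Prime.pow_dvd_iff_le_factorization Fact.out (mul_ne_zero hne Nat.card_pos.ne')).1
      (hn.trans (X.dvd_bound hL hK)))
    rw [Nat.factorization_mul hne Nat.card_pos.ne', Finsupp.add_apply] at h3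
    have h4 : (Nat.card K).factorization p < 2 := by
      by_contra h5
      exact hp2 ((Nat.Prime.pow_dvd_iff_le_factorization Fact.out hne).2 (not_lt.1 h5))
    omega
  set P' := P.map (MulAut.conj h).toMonoidHom
  have hP'L : P' ≤ L := by
    rintro _ ⟨g, hg, rfl⟩
    exact (hh g).1 (hPL hg)
  have hsyl : ∀ Q : Subgroup G, Q ≤ L → Nat.card Q = Nat.card P →
      Nat.card (Q.subgroupOf L) = p ^ (Nat.card L).factorization p := by
    intro Q hQ hc
    rw [Nat.card_congr (Subgroup.subgroupOfEquivOfLe hQ).toEquiv, hc]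
    obtain ⟨n, hn⟩ := IsPGroup.iff_card.1 hPp
    refine Nat.dvd_antisymm ?_ (hPcard _ (Nat.ordProj_dvd _ _))
    rw [hn]
    exact Nat.pow_dvd_pow p ((Nat.Prime.pow_dvd_iff_le_factorization Fact.out Nat.card_pos.ne').1
      (hn ▸ card_dvd_of_le hPL))
  obtain ⟨l, hl⟩ := MulAction.exists_smul_eq L
    (Sylow.ofCard (P'.subgroupOf L) (hsyl P' hP'L (Subgroup.card_map_of_injective (MulAut.conj h).injective)))
    (Sylow.ofCard (P.subgroupOf L) (hsyl P hPL rfl))
  refine ⟨P, hPL, mem_sup_left (mem_zpowers _), hPp, fun y hy => ?_, l, l.2, ?_⟩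
  · refine mem_centralizer_iff.2 fun g hg => ?_
    have : P ≤ centralizer ({f y} : Set G) := sup_le (zpowers_le.2 (mem_centralizer_singleton_iff.2 (by
      rw [← map_mul, ← map_mul, hy]))) fun c hc => mem_centralizer_singleton_iff.2 (comm_cT y (hPc hc).2).symm
    exact mem_centralizer_singleton_iff.1 (this hg)
  · have hfwd : ∀ g ∈ P, (l : G) * h * g * ((l : G) * h)⁻¹ ∈ P := fun g hg => by
      have hm : (⟨h * g * h⁻¹, (hh g).1 (hPL hg)⟩ : L) ∈ P'.subgroupOf L := mem_subgroupOf.2 ⟨g, hg, rfl⟩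
      have := Subgroup.mem_map_of_mem (MulAut.conj l).toMonoidHom hm
      have e := congrArg (fun S : Sylow p L => (S : Subgroup L)) hl
      rw [Sylow.coe_subgroup_smul] at e
      have e' : (P'.subgroupOf L).map (MulAut.conj l).toMonoidHom = P.subgroupOf L := e
      rw [e'] at this
      have hmem := mem_subgroupOf.1 this
      convert hmem using 1
      simp [mul_assoc]
    intro g
    refine ⟨hfwd g, fun hg => ?_⟩
    have hsurj : P.map (MulAut.conj ((l : G) * h)).toMonoidHom = P := by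
      refine eq_of_le_of_card_ge ?_ (Subgroup.card_map_of_injective (MulAut.conj _).injective).ge
      rintro _ ⟨q, hq, rfl⟩
      exact hfwd q hq
    rw [← hsurj] at hg
    obtain ⟨q, hq, hqe⟩ := hg
    rwa [← mul_left_cancel (mul_right_cancel (show (l : G) * h * q * ((l : G) * h)⁻¹ = _ from hqe))]

/-- The centraliser in the centraliser of the central one of an image of a class of the large centraliser. -/
theorem Ctx.dvd_U {b : Co0} (hb : IsConj b uO ∨ IsConj b (negAut * uO)) :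
    Nat.card ↥(centralizer ({pr uO} : Set Spor.Co1)) * Nat.card ↥(cT f) ∣
      Nat.card ↥(centralizer ({f negAut, f b} : Set G)) := by
  have hpr : IsConj (pr b) (pr uO) := by
    rcases hb with h | h
    · exact pr.map_isConj h
    · have := pr.map_isConj h; rwa [pr_neg] at this
  rw [← card_cent_conj hpr, ← X.card_preimage]
  refine card_dvd_of_le ?_
  rintro g ⟨⟨g, hg⟩, hgK, rfl⟩
  obtain ⟨a, c, hc, rfl⟩ := X.cz g (mem_centralizer_singleton_iff.1 hg)
  have := mem_centralizer_singleton_iff.1 (mem_comap.1 hgK)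
  rw [X.pi_eq _ hc rfl, ← map_mul, ← map_mul, pr_eq] at this
  have hab : a * b = b * a := by
    refine this.resolve_right fun e => ?_
    have hconj : IsConj b (negAut * b) := isConj_iff.2 ⟨a, by rw [e]; group⟩
    have hneg : ∀ {u w : Co0}, IsConj u w → IsConj (negAut * u) (negAut * w) := fun {u w} h => by
      obtain ⟨k, rfl⟩ := isConj_iff.1 h
      exact isConj_iff.2 ⟨k, by rw [← mul_assoc, ← neg_comm]; simp only [mul_assoc]⟩
    rcases hb with h | h
    · exact not_O_negO ((h.symm.trans hconj).trans (hneg h))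
    · have := (h.symm.trans hconj).trans (hneg h)
      rw [← mul_assoc, OutConway.One.neg_sq, one_mul] at this
      exact not_O_negO this.symm
  refine mem_pair.2 ⟨mem_centralizer_singleton_iff.1 hg, ?_⟩
  show f a * c * f b = f b * (f a * c)
  rw [mul_assoc, ← comm_cT b hc, ← mul_assoc, ← map_mul, hab, map_mul, mul_assoc]

/-- No conjugate of the central involution has the fourth type. -/
theorem Ctx.no_four {v₀ a₀ : Co0} (R : Reps v₀ a₀) {c : G} (hc : c ∈ cT f) (hc2 : c * c = f negAut) :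
    ¬ IsConj (f negAut) (f aB * c) := by
  intro hfus
  set z := f negAut with hzdef
  set v := f aB * c with hvdef
  have hzz : z * z = 1 := z_sq
  have hzv : v * z = z * v := mem_centralizer_singleton_iff.1 (mul_mem_nT aB hc)
  have hvv : v * v = 1 := by
    rw [hvdef, mul_assoc, ← mul_assoc c, ← comm_cT aB hc, show f aB * (f aB * c * c) = f (aB * aB) * (c * c) by
      rw [map_mul]; simp only [mul_assoc], aB_sq, hc2, z_sq]
  have hpiv : ∀ {g : ↥(nT f)}, (g : G) = v → X.pi g = pr aB := fun e => X.pi_eq _ hc e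
  have hvC : v ∉ cT f := fun hm => by
    have h1 := (X.pi_eq_one ⟨v, cT_le_nT hm⟩).2 hm
    rw [hpiv rfl] at h1
    rw [← orderOf_eq_one_iff, order_aB] at h1
    norm_num at h1
  obtain ⟨k₁, hk₁⟩ := isConj_iff.1 hfus
  set g := k₁⁻¹
  have hgv : g * v * g⁻¹ = z := by rw [← hk₁]; simp only [g]; group
  set w := g * z * g⁻¹ with hw
  have hwz : w * z = z * w := by
    calc w * z = g * z * g⁻¹ * (g * v * g⁻¹) := by rw [hgv]
      _ = g * (v * z) * g⁻¹ := by rw [hzv]; group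
      _ = g * v * g⁻¹ * (g * z * g⁻¹) := by group
      _ = z * w := by rw [hgv]
  have hww : w * w = 1 := by rw [hw, show g * z * g⁻¹ * (g * z * g⁻¹) = g * (z * z) * g⁻¹ by group, hzz]; group
  have hw1 : w ≠ 1 := fun e => by
    rw [hw, conj_eq_one_iff] at e
    exact Leech.negAut_ne_one (X.inj (e.trans (map_one f).symm))
  have hwne : w ≠ z := fun e => by
    have : z = v := by
      have := e.trans hgv.symm
      exact mul_left_cancel (mul_right_cancel this)
    exact hvC (this ▸ z_mem_cT)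
  set L := centralizer ({z, v} : Set G) with hLdef
  have hLn : L ≤ nT f := fun x hx => mem_centralizer_singleton_iff.2 (mem_pair.1 hx).1
  have hLK : ∀ x : ↥(nT f), (x : G) ∈ L → X.pi x ∈ centralizer ({pr aB} : Set Spor.Co1) := fun x hx => by
    rw [mem_centralizer_singleton_iff, ← hpiv (g := ⟨v, mul_mem_nT aB hc⟩) rfl, ← map_mul, ← map_mul]
    exact congrArg X.pi (Subtype.ext (mem_pair.1 hx).2)
  obtain ⟨k, hkz, hkw⟩ : ∃ k, k * z * k⁻¹ = z ∧ k * w * k⁻¹ = z * w := by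
    rcases X.classify R hwz hww hw1 hwne with ⟨b, hb, hbU | hbM | hbD⟩ | ⟨k, d, hd, hd2, hb⟩
    · exfalso; exact R.sylow (Nat.dvd_of_mul_dvd_mul_right Nat.card_pos
        (((hb ▸ (X.dvd_U (Or.inl hbU)) : Nat.card ↥(centralizer ({pr uO} : Set Spor.Co1)) * Nat.card ↥(cT f) ∣
          Nat.card ↥(centralizer ({z, w} : Set G))).trans (by
            nth_rewrite 1 [← hgv]; rw [hw, card_pair_conj, Set.pair_comm]; exact X.dvd_bound hLn hLK)).trans
          (mul_dvd_mul_left _ (card_dvd_of_le inf_le_right))))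
    · exfalso; exact R.sylow (Nat.dvd_of_mul_dvd_mul_right Nat.card_pos
        (((hb ▸ (X.dvd_U (Or.inr hbM)) : Nat.card ↥(centralizer ({pr uO} : Set Spor.Co1)) * Nat.card ↥(cT f) ∣
          Nat.card ↥(centralizer ({z, w} : Set G))).trans (by
            nth_rewrite 1 [← hgv]; rw [hw, card_pair_conj, Set.pair_comm]; exact X.dvd_bound hLn hLK)).trans
          (mul_dvd_mul_left _ (card_dvd_of_le inf_le_right))))
    · obtain ⟨s, hs⟩ := isConj_iff.1 hbD
      obtain ⟨s', hs'⟩ := isConj_iff.1 flip_uD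
      refine ⟨f (s⁻¹ * s' * s), mul_inv_eq_iff_eq_mul.2 (mem_centralizer_singleton_iff.1 (fa_mem_nT _)), ?_⟩
      rw [hb, hzdef, ← map_inv, ← map_mul, ← map_mul, ← map_mul]
      congr 1
      calc s⁻¹ * s' * s * b * (s⁻¹ * s' * s)⁻¹ = s⁻¹ * (s' * (s * b * s⁻¹) * s'⁻¹) * s := by group
        _ = s⁻¹ * (negAut * uD) * s := by rw [hs, hs']
        _ = negAut * (s⁻¹ * (s * b * s⁻¹) * s) := by rw [hs, ← mul_assoc, ← neg_comm]; simp only [mul_assoc]
        _ = negAut * b := by group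
    · refine ⟨f (k * signAut wB * k⁻¹), mul_inv_eq_iff_eq_mul.2 (mem_centralizer_singleton_iff.1 (fa_mem_nT _)), ?_⟩
      have e : f (signAut wB) * (f aB * d) * (f (signAut wB))⁻¹ = z * (f aB * d) := by
        calc f (signAut wB) * (f aB * d) * (f (signAut wB))⁻¹
            = f (signAut wB) * f aB * (d * (f (signAut wB))⁻¹) := by simp only [mul_assoc]
          _ = f (signAut wB) * f aB * ((f (signAut wB))⁻¹ * d) := by rw [← map_inv, comm_cT _ hd]
          _ = f (signAut wB * aB * (signAut wB)⁻¹) * d := by simp only [map_mul, map_inv, mul_assoc]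
          _ = z * (f aB * d) := by rw [aB_conj, map_mul, mul_assoc]
      rw [hb, map_mul, map_mul, map_inv]
      calc f k * f (signAut wB) * (f k)⁻¹ * (f k * (f aB * d) * (f k)⁻¹) *
            (f k * f (signAut wB) * (f k)⁻¹)⁻¹
          = f k * (f (signAut wB) * (f aB * d) * (f (signAut wB))⁻¹) * (f k)⁻¹ := by group
        _ = f k * z * (f aB * d) * (f k)⁻¹ := by rw [e]; group
        _ = z * (f k * (f aB * d) * (f k)⁻¹) := by
          rw [hzdef, ← map_mul, ← neg_comm, map_mul]; simp only [mul_assoc]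
  set s := g⁻¹ * k * g with hs
  have hsv : s * v * s⁻¹ = v := by
    calc s * v * s⁻¹ = g⁻¹ * (k * (g * v * g⁻¹) * k⁻¹) * g := by rw [hs]; group
      _ = g⁻¹ * (g * v * g⁻¹) * g := by rw [hgv, hkz]
      _ = v := by group
  have hsz : s * z * s⁻¹ = v * z := by
    calc s * z * s⁻¹ = g⁻¹ * (k * w * k⁻¹) * g := by rw [hs, hw]; group
      _ = g⁻¹ * ((g * v * g⁻¹) * (g * z * g⁻¹)) * g := by rw [hkw, hgv]
      _ = v * z := by group
  set k₀ := f (signAut wB)
  have hkv : k₀ * v * k₀⁻¹ = z * v := by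
    calc k₀ * v * k₀⁻¹ = f (signAut wB) * f aB * (c * (f (signAut wB))⁻¹) := by simp only [k₀, hvdef, mul_assoc]
      _ = f (signAut wB) * f aB * ((f (signAut wB))⁻¹ * c) := by rw [← map_inv, comm_cT _ hc]
      _ = f (signAut wB * aB * (signAut wB)⁻¹) * c := by simp only [map_mul, map_inv, mul_assoc]
      _ = z * v := by rw [aB_conj, map_mul, mul_assoc]
  have hkz0 : k₀ * z * k₀⁻¹ = z := mul_inv_eq_iff_eq_mul.2 (mem_centralizer_singleton_iff.1 (fa_mem_nT _))
  have hkz0' : k₀⁻¹ * z * k₀ = z := by nth_rewrite 1 [← hkz0]; group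
  have hkv' : k₀⁻¹ * v * k₀ = z * v := by
    have e : v = k₀ * (z * v) * k₀⁻¹ := by
      rw [show k₀ * (z * v) * k₀⁻¹ = (k₀ * z * k₀⁻¹) * (k₀ * v * k₀⁻¹) by group, hkz0, hkv, ← mul_assoc, hzz, one_mul]
    nth_rewrite 1 [e]; group
  set h := k₀ * s * k₀⁻¹ with hh
  have hhz : h * z * h⁻¹ = v := by
    calc h * z * h⁻¹ = k₀ * (s * (k₀⁻¹ * z * k₀) * s⁻¹) * k₀⁻¹ := by rw [hh]; group
      _ = k₀ * v * k₀⁻¹ * (k₀ * z * k₀⁻¹) := by rw [hkz0', hsz]; group
      _ = v := by rw [hkv, hkz0, mul_assoc, hzv, ← mul_assoc, hzz, one_mul]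
  have hhv : h * v * h⁻¹ = z := by
    calc h * v * h⁻¹ = k₀ * (s * (k₀⁻¹ * v * k₀) * s⁻¹) * k₀⁻¹ := by rw [hh]; group
      _ = k₀ * ((s * z * s⁻¹) * (s * v * s⁻¹)) * k₀⁻¹ := by rw [hkv']; group
      _ = k₀ * (v * (z * v)) * k₀⁻¹ := by rw [hsv, hsz]; simp only [mul_assoc]
      _ = z := by rw [← hzv, ← mul_assoc v v z, hvv, one_mul, hkz0]
  have hswap : ∀ {u : G}, u * z * u⁻¹ = v → u * v * u⁻¹ = z → ∀ x, x ∈ L ↔ u * x * u⁻¹ ∈ L := by
    intro u h1 h2 x
    rw [hLdef, mem_pair, mem_pair]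
    have e1 := comm_conj u x v
    have e2 := comm_conj u x z
    rw [h2] at e1
    rw [h1] at e2
    exact (and_congr e2.symm e1.symm).trans and_comm
  have hcodd : ∀ x ∈ L, Odd (orderOf x) → x * c = c * x := by
    intro x hx hodd
    obtain ⟨hxz, hxv⟩ := mem_pair.1 hx
    obtain ⟨a, d, hd, rfl⟩ := X.cz x hxz
    refine odd_comm hodd hc2 z_sq hxz ?_
    have e1 : f (a * aB * a⁻¹) * (d * c * d⁻¹) = f aB * c := by
      calc f (a * aB * a⁻¹) * (d * c * d⁻¹) = f a * f aB * ((f a)⁻¹ * (d * c * d⁻¹)) := by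
            simp only [map_mul, map_inv, mul_assoc]
        _ = f a * f aB * ((d * c * d⁻¹) * (f a)⁻¹) := by
            rw [← map_inv, comm_cT _ (mul_mem (mul_mem hd hc) (inv_mem hd))]
        _ = f a * (f aB * d) * c * d⁻¹ * (f a)⁻¹ := by simp only [mul_assoc]
        _ = (f a * d) * v * (f a * d)⁻¹ := by rw [comm_cT aB hd, hvdef, mul_inv_rev]; simp only [mul_assoc]
        _ = f aB * c := mul_inv_eq_iff_eq_mul.2 hxv
    have hcd : f a * d * c * (f a * d)⁻¹ = d * c * d⁻¹ := by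
      rw [mul_inv_rev, show f a * d * c * (d⁻¹ * (f a)⁻¹) = f a * (d * c * d⁻¹) * (f a)⁻¹ by group,
        comm_cT a (mul_mem (mul_mem hd hc) (inv_mem hd)), mul_inv_cancel_right]
    rw [hcd]
    have hpe := X.pr_unique (mul_mem (mul_mem hd hc) (inv_mem hd)) hc e1
    rcases pr_eq.1 hpe with e | e
    · rw [e] at e1
      exact Or.inl (mul_left_cancel e1)
    · right
      rw [e, map_mul, ← hzdef, show z * f aB = f aB * z by rw [hzdef, ← map_mul, ← map_mul, neg_comm], mul_assoc]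
        at e1
      have e2 := mul_left_cancel e1
      have hzc : z * c = c * z := comm_cT negAut hc
      rw [← hzc]
      calc d * c * d⁻¹ = z * (z * (d * c * d⁻¹)) := by rw [← mul_assoc, hzz, one_mul]
        _ = z * c := by rw [e2]
  have hfL : ∀ {y : Co0}, y * aB = aB * y → f y ∈ L := fun {y} hy => mem_pair.2
    ⟨mem_centralizer_singleton_iff.1 (fa_mem_nT y), by
      rw [hvdef, ← mul_assoc, ← map_mul, hy, map_mul, mul_assoc, mul_assoc, comm_cT y hc]⟩
  have hv1 : pr v₀ ≠ 1 := fun e => by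
    rcases pr_eq_one.1 e with e | e
    · exact R.v_ne e
    · have := R.v7
      rw [e, show (7 : ℕ) = 2 * 3 + 1 from rfl, pow_succ, pow_mul, pow_two, OutConway.One.neg_sq, one_pow, one_mul] at this
      exact Leech.negAut_ne_one this
  have ha1 : pr a₀ ≠ 1 := fun e => by
    rcases pr_eq_one.1 e with e | e
    · exact R.a_ne e
    · have := R.a3
      rw [e, pow_succ, pow_two, OutConway.One.neg_sq, one_mul] at this
      exact Leech.negAut_ne_one this
  have hK2 : ¬ 7 ^ 2 ∣ Nat.card ↥(centralizer ({pr aB} : Set Spor.Co1)) := fun hd => by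
    haveI : Fact (Nat.Prime 7) := ⟨by norm_num⟩
    have hm : pr v₀ ∈ centralizer ({pr aB} : Set Spor.Co1) := mem_centralizer_singleton_iff.2 (by
      rw [← map_mul, ← map_mul, R.comm_vB])
    have hord : orderOf (⟨pr v₀, hm⟩ : centralizer ({pr aB} : Set Spor.Co1)) = 7 := by
      rw [Subgroup.orderOf_mk]; exact orderOf_eq_prime (by rw [← map_pow, R.v7, map_one]) hv1
    obtain ⟨Q, hQ, hQle⟩ := Sylow.exists_subgroup_card_pow_succ (n := 1) hd
      (H := zpowers (⟨pr v₀, hm⟩ : centralizer ({pr aB} : Set Spor.Co1))) (by rw [Nat.card_zpowers, hord, pow_one])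
    have hle : Q.map (centralizer ({pr aB} : Set Spor.Co1)).subtype ≤ centralizer ({pr aB, pr v₀} : Set Spor.Co1) := by
      rintro _ ⟨q, hq, rfl⟩
      refine mem_pair.2 ⟨mem_centralizer_singleton_iff.1 q.2, ?_⟩
      have := IsPGroup.commutative_of_card_eq_prime_sq hQ ⟨q, hq⟩ ⟨_, hQle (mem_zpowers _)⟩
      exact congrArg (fun t : ↥Q => ((t : centralizer ({pr aB} : Set Spor.Co1)) : Spor.Co1)) this
    have := card_dvd_of_le hle
    rw [Subgroup.card_map_of_injective (Subgroup.subtype_injective _), hQ, R.card_vt] at this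
    norm_num at this
  haveI : Fact (Nat.Prime 7) := ⟨by norm_num⟩
  haveI : Fact (Nat.Prime 3) := ⟨Nat.prime_three⟩
  obtain ⟨P, hPL, hxP, hPp, hPcomm, l, hlL, hlP⟩ :=
    X.adjust hLn hLK hK2 (hfL R.comm_vB) R.v7 hv1 (hswap hhz hhv)
  set h1 := l * h with hh1
  obtain ⟨hlz, hlv⟩ := mem_pair.1 hlL
  have h1z : h1 * z * h1⁻¹ = v := by
    rw [hh1, show l * h * z * (l * h)⁻¹ = l * (h * z * h⁻¹) * l⁻¹ by group, hhz, hlv, mul_inv_cancel_right]
  have h1v : h1 * v * h1⁻¹ = z := by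
    rw [hh1, show l * h * v * (l * h)⁻¹ = l * (h * v * h⁻¹) * l⁻¹ by group, hhv, hlz, mul_inv_cancel_right]
  set M := L ⊓ centralizer (P : Set G) with hM
  have hMK : ∀ x : ↥(nT f), (x : G) ∈ M → X.pi x ∈ centralizer ({pr aB, pr v₀} : Set Spor.Co1) := fun x hx =>
    mem_pair.2 ⟨mem_centralizer_singleton_iff.1 (hLK x hx.1), by
      rw [← X.pi_f v₀, ← map_mul, ← map_mul]
      exact congrArg X.pi (Subtype.ext (mem_centralizer_iff.1 hx.2 _ hxP).symm)⟩
  have hMh : ∀ x, x ∈ M ↔ h1 * x * h1⁻¹ ∈ M := by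
    intro x
    rw [hM, mem_inf, mem_inf, ← hswap h1z h1v x]
    refine and_congr_right fun _ => ?_
    rw [mem_centralizer_iff, mem_centralizer_iff]
    constructor
    · intro hx q hq
      have hq' : h1⁻¹ * q * h1 ∈ P :=
        (hlP _).2 (by rwa [show h1 * (h1⁻¹ * q * h1) * h1⁻¹ = q by group])
      calc q * (h1 * x * h1⁻¹) = h1 * (h1⁻¹ * q * h1 * x) * h1⁻¹ := by group
        _ = h1 * (x * (h1⁻¹ * q * h1)) * h1⁻¹ := by rw [hx _ hq']
        _ = h1 * x * h1⁻¹ * q := by group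
    · intro hx q hq
      have := hx _ ((hlP q).1 hq)
      calc q * x = h1⁻¹ * (h1 * q * h1⁻¹ * (h1 * x * h1⁻¹)) * h1 := by group
        _ = h1⁻¹ * (h1 * x * h1⁻¹ * (h1 * q * h1⁻¹)) * h1 := by rw [this]
        _ = x * q := by group
  obtain ⟨T, hTM, haT, hTp, -, m, hmM, hmT⟩ := X.adjust (inf_le_left.trans hLn) hMK
    (show ¬ 3 ^ 2 ∣ Nat.card ↥(centralizer ({pr aB, pr v₀} : Set Spor.Co1)) by rw [R.card_vt]; norm_num)
    (show f a₀ ∈ M from ⟨hfL R.comm_aB, hPcomm a₀ R.comm_va.symm⟩) R.a3 ha1 hMh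
  obtain ⟨hmL, hmP⟩ := mem_inf.1 hmM
  obtain ⟨hmz, hmv⟩ := mem_pair.1 hmL
  set h2 := m * h1 with hh2
  have h2z : h2 * z * h2⁻¹ = v := by
    rw [hh2, show m * h1 * z * (m * h1)⁻¹ = m * (h1 * z * h1⁻¹) * m⁻¹ by group, h1z, hmv, mul_inv_cancel_right]
  have h2v : h2 * v * h2⁻¹ = z := by
    rw [hh2, show m * h1 * v * (m * h1)⁻¹ = m * (h1 * v * h1⁻¹) * m⁻¹ by group, h1v, hmz, mul_inv_cancel_right]
  have hodd : ∀ {p : ℕ} {Q : Subgroup G}, IsPGroup p Q → Odd p → ∀ q ∈ Q, Odd (orderOf q) := by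
    intro p Q hQ hp q hq
    obtain ⟨k, hk⟩ := hQ ⟨q, hq⟩
    exact (hp.pow).of_dvd_nat (orderOf_dvd_of_pow_eq_one (by simpa using congrArg Subtype.val hk))
  have hcP : ∀ q ∈ P, q * c = c * q := fun q hq => hcodd q (hPL hq) (hodd hPp (by decide) q hq)
  have hcT : ∀ q ∈ T, q * c = c * q := fun q hq => hcodd q (hTM hq).1 (hodd hTp (by decide) q hq)
  set y := h2 * c * h2⁻¹ with hy
  have hconjc : ∀ {u : G}, u * c = c * u → y * (h2 * u * h2⁻¹) = h2 * u * h2⁻¹ * y := fun {u} e => by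
    rw [hy, show h2 * c * h2⁻¹ * (h2 * u * h2⁻¹) = h2 * (c * u) * h2⁻¹ by group, ← e]; group
  have hyz : y * z = z * y := by
    rw [← h2v]; refine hconjc ?_
    rw [hvdef, mul_assoc, comm_cT aB (mul_mem hc hc), mul_assoc c, ← mul_assoc]
    rw [comm_cT aB hc, mul_assoc]
  have hyv : y * v = v * y := by
    rw [← h2z]; exact hconjc (comm_cT negAut hc)
  have hyP : y * f v₀ = f v₀ * y := by
    have hq : h2⁻¹ * f v₀ * h2 ∈ P := by
      refine (hlP _).2 ?_
      show h1 * (h2⁻¹ * f v₀ * h2) * h1⁻¹ ∈ P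
      rw [show h1 * (h2⁻¹ * f v₀ * h2) * h1⁻¹ = m⁻¹ * (f v₀ * m) by rw [hh2]; group,
        mem_centralizer_iff.1 hmP _ hxP, inv_mul_cancel_left]
      exact hxP
    have := hconjc (hcP _ hq)
    rwa [show h2 * (h2⁻¹ * f v₀ * h2) * h2⁻¹ = f v₀ by group] at this
  have hyT : y * f a₀ = f a₀ * y := by
    have hq : h2⁻¹ * f a₀ * h2 ∈ T :=
      (hmT _).2 (by rwa [show h2 * (h2⁻¹ * f a₀ * h2) * h2⁻¹ = f a₀ by group])
    have := hconjc (hcT _ hq)
    rwa [show h2 * (h2⁻¹ * f a₀ * h2) * h2⁻¹ = f a₀ by group] at this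
  have hyn : y ∈ nT f := mem_centralizer_singleton_iff.2 hyz
  have hy2 : y * y = v := by
    rw [hy, show h2 * c * h2⁻¹ * (h2 * c * h2⁻¹) = h2 * (c * c) * h2⁻¹ by group, hc2, h2z]
  refine hvC ((X.pi_eq_one ⟨v, mul_mem_nT aB hc⟩).1 ?_)
  have hsq := R.sq (X.pi ⟨y, hyn⟩)
    (by rw [← hpiv (g := ⟨v, mul_mem_nT aB hc⟩) rfl, ← map_mul, ← map_mul]; exact congrArg X.pi (Subtype.ext hyv))
    (by rw [← X.pi_f v₀, ← map_mul, ← map_mul]; exact congrArg X.pi (Subtype.ext hyP))
    (by rw [← X.pi_f a₀, ← map_mul, ← map_mul]; exact congrArg X.pi (Subtype.ext hyT))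
    (by
      rw [← map_pow, show (⟨y, hyn⟩ : ↥(nT f)) ^ 4 = 1 from Subtype.ext (by
        rw [SubmonoidClass.coe_pow]
        show y ^ 4 = 1
        rw [show (4 : ℕ) = 2 * 2 from rfl, pow_mul, pow_two y, hy2, pow_two, hvv]), map_one])
  rw [← map_pow] at hsq
  refine Eq.trans (congrArg X.pi (Subtype.ext ?_)) hsq
  rw [SubmonoidClass.coe_pow]
  exact ((pow_two y).trans hy2).symm

end CfsgLib.Co1Comp
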