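import Cfsg.Agent.Co1Cent.Main
import Cfsg.Agent.Golay.Dodecad
import Cfsg.Agent.Golay.TableHom
import Cfsg.Agent.Leech.MinVectors
import Cfsg.Agent.Leech.Cross

/-!
Sign changes in the automorphism group of the lattice: an invariant separating their classes, the centraliser of
a sign change on a dodecad, and the elements used for the standard component.
-/

set_option autoImplicit false
set_option maxRecDepth 100000
set_option linter.style.haveILetI false
set_option linter.unusedSectionVars false

namespace CfsgLib.Co1Comp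

open Cfsg CfsgLib CfsgLib.Golay CfsgLib.Leech MulAction
open scoped Pointwise
open CfsgLib.Golay.Cert (genOK ofList toList_ofList powL)

attribute [local irreducible] CfsgLib.Leech.shortVecs CfsgLib.Leech.halfTable CfsgLib.Leech.quarterTable

/-- The code word of a mask. -/
def cw (m : ℕ) : golayCode := ⟨vec (word (m % 4096)), vec_word_mem _⟩

/-- The number of its points. -/
def wtW (w : golayCode) : ℕ := (support₂ (w : GolayPt → ZMod 2)).card

theorem mem_sup {w : golayCode} {p : GolayPt} :
    p ∈ support₂ (w : GolayPt → ZMod 2) ↔ (w : GolayPt → ZMod 2) p = 1 := by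
  simp [support₂, zmod2_ne_zero_iff]

/-- Fixed vectors, nonzero and pairwise orthogonal. -/
def OrthFix (k : ℕ) (g : Co0) : Prop :=
  ∃ f : Fin k → leechLattice, (∀ i, g • f i = f i) ∧ (∀ i, f i ≠ 0) ∧
    ∀ i j, i ≠ j → dotInt (f i : GolayPt → ℤ) (f j : GolayPt → ℤ) = 0

theorem OrthFix.conj {k : ℕ} {g h : Co0} (hc : IsConj g h) : OrthFix k g → OrthFix k h := by
  rintro ⟨f, h1, h2, h3⟩
  obtain ⟨c, rfl⟩ := isConj_iff.1 hc
  refine ⟨fun i => c • f i, fun i => ?_, fun i e => h2 i ?_, fun i j hij => ?_⟩
  · rw [← mul_smul, inv_mul_cancel_right, mul_smul, h1]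
  · calc f i = c⁻¹ • (c • f i) := (inv_smul_smul c _).symm
      _ = 0 := by rw [show c • f i = 0 from e, smul_zero']
  · rw [dot_smul', h3 i j hij]

theorem flip_off {w : golayCode} {v : leechLattice} (h : signAut w • v = v) {p : GolayPt}
    (hp : (w : GolayPt → ZMod 2) p = 1) : (v : GolayPt → ℤ) p = 0 := by
  have := congrFun (congrArg Subtype.val h) p
  rw [signAut_apply] at this
  simp only [flipSign, hp, if_true] at this
  omega

/-- The number of fixed orthogonal vectors of a sign change. -/
theorem orthFix_signAut (w : golayCode) (k : ℕ) : OrthFix k (signAut w) ↔ k + wtW w ≤ 24 := by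
  classical
  set s := support₂ (w : GolayPt → ZMod 2)
  have hsc : Fintype.card {p : GolayPt // p ∉ s} + wtW w = 24 := by
    rw [Fintype.card_subtype_compl, Fintype.card_coe, card_golayPt, wtW]
    have h24 := Finset.card_le_univ s
    rw [card_golayPt] at h24
    show 24 - s.card + s.card = 24
    omega
  constructor
  · rintro ⟨f, h1, h2, h3⟩
    let g : Fin k → ({p : GolayPt // p ∉ s} → ℤ) := fun i p => (f i : GolayPt → ℤ) p.1
    have hdot : ∀ i j, ∑ p : {p : GolayPt // p ∉ s}, g i p * g j p = dotInt (f i : GolayPt → ℤ) (f j : GolayPt → ℤ) := by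
      intro i j
      rw [dotInt, ← Finset.sum_subtype (Finset.univ.filter (· ∉ s)) (by simp)
        (fun p => (f i : GolayPt → ℤ) p * (f j : GolayPt → ℤ) p)]
      refine Finset.sum_subset (Finset.subset_univ _) fun p _ hp => ?_
      rw [flip_off (h1 i) (mem_sup.1 (by simpa using hp)), zero_mul]
    have hli : LinearIndependent ℤ g := by
      rw [Fintype.linearIndependent_iff]
      intro c hc i
      have h0 : ∑ p, (∑ j, c j • g j) p * g i p = 0 := by rw [hc]; simp
      simp only [Finset.sum_apply, Pi.smul_apply, smul_eq_mul, Finset.sum_mul, mul_assoc] at h0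
      rw [Finset.sum_comm] at h0
      simp only [← Finset.mul_sum, hdot] at h0
      rw [Finset.sum_eq_single i (fun j _ hj => by rw [h3 j i hj, mul_zero]) (by simp)] at h0
      refine (mul_eq_zero.1 h0).resolve_right fun e => h2 i (Subtype.ext (funext fun p => ?_))
      have := (Finset.sum_eq_zero_iff_of_nonneg (fun q _ => mul_self_nonneg _)).1 e p (Finset.mem_univ p)
      exact mul_self_eq_zero.1 this
    have := hli.fintype_card_le_finrank
    rw [Fintype.card_fin, Module.finrank_pi] at this
    omega
  · intro hk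
    obtain ⟨e⟩ : Nonempty (Fin k ↪ {p : GolayPt // p ∉ s}) := Function.Embedding.nonempty_of_card_le
      (by rw [Fintype.card_fin]; omega)
    refine ⟨fun i => eightAt (e i).1, fun i => Subtype.ext (funext fun p => ?_), fun i h => ?_, fun i j hij => ?_⟩
    · rw [signAut_apply]
      simp only [flipSign, eightAt_apply]
      by_cases hp : p = (e i).1
      · subst hp
        rw [if_neg fun h => (e i).2 (mem_sup.2 h)]
      · simp [hp]
    · have := congrFun (congrArg Subtype.val h) (e i).1
      simp [eightAt_apply] at this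
    · refine Finset.sum_eq_zero fun p _ => ?_
      simp only [eightAt_apply]
      split_ifs with a b <;> simp
      exact hij (e.injective (Subtype.ext (a.symm.trans b)))

/-- Conjugate sign changes have the same weight. -/
theorem wt_of_conj {w w' : golayCode} (h : IsConj (signAut w) (signAut w')) : wtW w = wtW w' := by
  have hb : ∀ u : golayCode, wtW u ≤ 24 := fun u => (Finset.card_le_univ _).trans_eq card_golayPt
  have h1 := (orthFix_signAut w' (24 - wtW w)).1 (OrthFix.conj h ((orthFix_signAut w _).2 (by have := hb w; omega)))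
  have h2 := (orthFix_signAut w (24 - wtW w')).1 (OrthFix.conj h.symm ((orthFix_signAut w' _).2 (by have := hb w'; omega)))
  have := hb w
  have := hb w'
  omega

/-! ### The words and permutations -/

/-- The base octad. -/
def wO : golayCode := cw baseOctad
/-- The second octad of the trio. -/
def wO1 : golayCode := cw 3704512
/-- The third octad of the trio. -/
def wO2 : golayCode := cw 4536592
/-- An octad meeting the base one in four points. -/
def wF : golayCode := cw 5279
/-- A dodecad. -/
def wD : golayCode := cw 8551822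
/-- A dodecad whose sum with it is an octad. -/
def wE : golayCode := cw 28637
/-- Half of an involution without fixed points. -/
def wB : golayCode := cw 255921
/-- All points. -/
def wA : golayCode := cw 16777215

/-- An element of order seven fixing the trio. -/
def sevenL : List ℕ :=
  [14, 1, 0, 17, 18, 3, 21, 20, 4, 6, 9, 22, 11, 8, 23, 7, 16, 2, 12, 19, 10, 15, 13, 5]
/-- An element exchanging the first two octads of the trio. -/
def swapL : List ℕ :=
  [6, 9, 21, 7, 11, 15, 14, 1, 4, 2, 17, 8, 16, 13, 19, 5, 18, 10, 12, 23, 0, 3, 22, 20]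
/-- An element exchanging the dodecad with its complement. -/
def flipL : List ℕ :=
  [12, 18, 4, 6, 13, 2, 3, 9, 5, 17, 15, 16, 19, 20, 0, 8, 10, 22, 14, 1, 23, 11, 7, 21]
/-- An involution without fixed points. -/
def fpfL : List ℕ :=
  [21, 8, 4, 15, 2, 12, 7, 6, 1, 11, 19, 9, 5, 22, 18, 3, 20, 23, 14, 10, 16, 0, 13, 17]

theorem words_ok :
    (wtW wO = 8 ∧ wtW wO1 = 8 ∧ wtW wO2 = 8 ∧ wtW wF = 8 ∧ wtW wD = 12 ∧ wtW wE = 12) ∧
      (wtW (wO + wF) = 8 ∧ wtW (wD + wE) = 8 ∧ wtW (wD + wA) = 12) := by
  decide +kernel

theorem words_eq : (∀ p, (wA : GolayPt → ZMod 2) p = 1) ∧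
    ∀ p, (wO + wO1 : golayCode).1 p = (wA + wO2 : golayCode).1 p := by
  decide +kernel

theorem wA_eq : wA = oneWord := Subtype.ext (funext fun p => by rw [words_eq.1]; rfl)

theorem wO_eq : wO = Co1Cent.octWord := rfl

theorem perms_ok : (genOK sevenL = true ∧ genOK swapL = true ∧ genOK flipL = true ∧ genOK fpfL = true) ∧
    (powL sevenL 7 = List.range 24 ∧ sevenL ≠ List.range 24) := by
  decide +kernel

/-- The permutation moves one word to the other. -/
def sends (L : List ℕ) (w w' : golayCode) : Prop :=
  ∀ i < 24, (w' : GolayPt → ZMod 2) (pt (L.getD i 0)) = (w : GolayPt → ZMod 2) (pt i)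

instance (L : List ℕ) (w w' : golayCode) : Decidable (sends L w w') := by unfold sends; infer_instance

theorem sends_ok : (sends sevenL wO wO ∧ sends sevenL wO1 wO1 ∧ sends sevenL wO2 wO2) ∧
    (sends swapL wO wO1 ∧ sends swapL wO1 wO ∧ sends swapL wO2 wO2) ∧
    sends flipL wD (wD + wA) ∧ sends fpfL wB (wB + wA) := by
  decide +kernel

theorem sends_smul {L : List ℕ} (hL : genOK L = true) {w w' : golayCode} (h : sends L w w') :
    permHom (ofList L) * signAut w * (permHom (ofList L))⁻¹ = signAut w' := by
  rw [permHom_mul_signAut, mul_inv_cancel_right]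
  congr 1
  refine Subtype.ext (funext fun p => ?_)
  obtain ⟨q, rfl⟩ : ∃ q, ((ofList L : M24) : Equiv.Perm GolayPt) q = p := Equiv.surjective _ p
  show (w : GolayPt → ZMod 2) _ = _
  rw [Equiv.Perm.inv_def, Equiv.symm_apply_apply]
  have := h (idx q) (idx_lt q)
  rw [pt_idx] at this
  rw [← this]
  congr 1
  have e := toList_getD_idx (σ := ((ofList L : M24) : Equiv.Perm GolayPt)) q
  rw [toList_ofList hL] at e
  rw [e, pt_idx]

/-! ### The centraliser of the dodecad sign change -/

theorem stdA_mem {j : GolayPt} (h : none ≠ j) : stdA none j ∈ leechLattice := by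
  refine mem_leech_iff.2 ⟨fun p => ?_, ?_, ?_⟩
  · simp only [stdA]; split_ifs <;> omega
  · have : ∑ p, stdA none j p = 8 := by
      simp only [stdA]
      rw [Finset.sum_ite, Finset.sum_const_zero, add_zero, Finset.sum_const,
        show (Finset.univ.filter fun p => p = none ∨ p = j) = {none, j} by ext; simp, Finset.card_pair h]
      norm_num
    rw [this, stdA, if_pos (Or.inl rfl)]
    norm_num
  · have : hi (stdA none j) = 0 := funext fun p => by
      simp only [hi, stdA, Pi.zero_apply]; split_ifs <;> rfl
    rw [this]; exact golayCode.zero_mem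

theorem dod_none : (wD : GolayPt → ZMod 2) none = 1 := by decide +kernel

theorem monomial_of_comm {g : Co0} (h : g * signAut wD = signAut wD * g) : ∃ x, monoAut x = g := by
  classical
  set S := support₂ (wD : GolayPt → ZMod 2) with hS
  have hsupp : ∀ (v : leechLattice), (∀ q, q ∉ S → (v : GolayPt → ℤ) q = 0) →
      ∀ q, q ∉ S → ((g • v : leechLattice) : GolayPt → ℤ) q = 0 := by
    intro v hv q hq
    have hneg : signAut wD • v = -v := Subtype.ext (funext fun r => by
      rw [signAut_apply]
      simp only [flipSign, AddSubgroup.coe_neg, Pi.neg_apply]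
      split_ifs with hr
      · rfl
      · rw [hv r fun hm => hr (mem_sup.1 hm)]; rfl)
    have e : signAut wD • (g • v) = -(g • v) := by rw [← mul_smul, ← h, mul_smul, hneg, smul_neg']
    have := congrFun (congrArg Subtype.val e) q
    rw [signAut_apply] at this
    simp only [flipSign, AddSubgroup.coe_neg, Pi.neg_apply] at this
    rw [if_neg fun e1 => hq (mem_sup.2 e1)] at this
    omega
  have hroot : ∀ (v : leechLattice), sqNorm (v : GolayPt → ℤ) = 32 → (∀ q, q ∉ S → (v : GolayPt → ℤ) q = 0) →
      ShapeA ((g • v : leechLattice) : GolayPt → ℤ) := by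
    intro v hn hv
    have hgv := hsupp v hv
    rcases min_shape (g • v).2 (by rw [sqNorm_smul, hn]) with hA | ⟨o, ⟨⟨u, hu, rfl⟩, hu8⟩, ho, -⟩ | ⟨i, -, hi⟩
    · exact hA
    · exfalso
      have hsub : support₂ u ⊆ S := fun p hp => by
        by_contra hq
        rcases ho p hp with e | e <;> rw [hgv p hq] at e <;> norm_num at e
      have hw := hammingNorm_mem _ (golayCode.add_mem wD.2 hu)
      have hd : support₂ ((wD : GolayPt → ZMod 2) + u) = S \ support₂ u := by
        ext p
        rw [Finset.mem_sdiff, hS, mem_sup]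
        simp only [support₂, Finset.mem_filter, Finset.mem_univ, true_and, Pi.add_apply, zmod2_ne_zero_iff]
        rcases eq_zero_or_one (u p) with e | e
        · simp [e]
        · have hm : p ∈ support₂ u := by simp [support₂, e]
          have := mem_sup.1 (hsub hm)
          simp [e, this, support₂]
      have h4 : (support₂ ((wD : GolayPt → ZMod 2) + u)).card = 4 := by
        rw [hd, Finset.card_sdiff_of_subset hsub, hu8, hS]
        exact congrArg (· - 8) words_ok.1.2.2.2.2.1
      rw [hammingNorm_eq, h4] at hw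
      omega
    · exfalso
      obtain ⟨p, hp⟩ : ∃ p : GolayPt, p ∉ S ∧ p ≠ i := by
        have hc : 1 < Sᶜ.card := by
          rw [Finset.card_compl, card_golayPt, hS, show (support₂ (wD : GolayPt → ZMod 2)).card = 12 from
            words_ok.1.2.2.2.2.1]
          norm_num
        obtain ⟨a, ha, b, hb, hab⟩ := Finset.one_lt_card.1 hc
        by_cases e : a = i
        · exact ⟨b, Finset.mem_compl.1 hb, fun e' => hab (e.trans e'.symm)⟩
        · exact ⟨a, Finset.mem_compl.1 ha, e⟩
      rcases hi p hp.2 with e | e <;> rw [hgv p hp.1] at e <;> norm_num at e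
  have hp : (none : GolayPt) ∈ S := mem_sup.2 dod_none
  set x := g • eightAt none with hx
  by_cases h8 : ∃ r, ((x : leechLattice) : GolayPt → ℤ) r = 8 ∨ (x : GolayPt → ℤ) r = -8
  · obtain ⟨r, hr⟩ := h8
    refine exists_monoAut ?_
    have hn : sqNorm (x : GolayPt → ℤ) = 64 := by rw [hx, sqNorm_smul, sqNorm_eightAt]
    have hother : ∀ p, p ≠ r → (x : GolayPt → ℤ) p = 0 := by
      intro p hpr
      rw [sqNorm, ← Finset.add_sum_erase _ _ (Finset.mem_univ r)] at hn
      have h64 : (x : GolayPt → ℤ) r ^ 2 = 64 := by rcases hr with e | e <;> rw [e] <;> norm_num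
      have := (Finset.sum_eq_zero_iff_of_nonneg fun q _ => sq_nonneg ((x : GolayPt → ℤ) q)).1
        (by omega : ∑ q ∈ Finset.univ.erase r, (x : GolayPt → ℤ) q ^ 2 = 0) p
        (Finset.mem_erase.2 ⟨hpr, Finset.mem_univ p⟩)
      exact pow_eq_zero_iff two_ne_zero |>.1 this
    have hmem : (x : GolayPt → ℤ) ∈ signedEights := by
      rw [mem_signedEights]
      refine ⟨r, ?_⟩
      rcases hr with e | e
      · left; funext p; rw [eightAt_apply]; by_cases hpr : p = r
        · rw [if_pos hpr, hpr, e]
        · rw [if_neg hpr, hother p hpr]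
      · right; funext p; rw [Pi.neg_apply, eightAt_apply]; by_cases hpr : p = r
        · rw [if_pos hpr, hpr, e]
        · rw [if_neg hpr, hother p hpr]; rfl
    rw [← frame_class_eq, Finset.mem_filter] at hmem
    exact hmem.2
  · exfalso
    have hpair : ∀ q : {q // q ∈ S.erase none}, ∃ v : leechLattice,
        (v : GolayPt → ℤ) = stdA none q.1 := fun q => ⟨⟨_, stdA_mem (Finset.mem_erase.1 q.2).1.symm⟩, rfl⟩
    choose v hv using hpair
    have hnq : ∀ q : {q // q ∈ S.erase none}, q.1 ≠ none := fun q => (Finset.mem_erase.1 q.2).1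
    have hdiff : ∀ q : {q // q ∈ S.erase none}, eightAt none = v q + (v q - eightAt q.1) := fun q => by
      refine Subtype.ext (funext fun p => ?_)
      simp only [AddSubgroup.coe_add, AddSubgroup.coe_sub, Pi.add_apply, Pi.sub_apply, hv, stdA, eightAt_apply]
      by_cases e1 : p = none <;> by_cases e2 : p = q.1 <;> simp [e1, e2, hnq q, (hnq q).symm]
    have hA : ∀ q : {q // q ∈ S.erase none}, ShapeA ((g • v q : leechLattice) : GolayPt → ℤ) ∧
        ShapeA ((g • (v q - eightAt q.1) : leechLattice) : GolayPt → ℤ) := by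
      intro q
      have hqS := (Finset.mem_erase.1 q.2).2
      have h0 : ∀ p ∉ S, (v q : GolayPt → ℤ) p = 0 ∧ ((v q - eightAt q.1 : leechLattice) : GolayPt → ℤ) p = 0 := by
        intro p hpS
        simp only [AddSubgroup.coe_sub, Pi.sub_apply, hv, stdA, eightAt_apply]
        have e1 : p ≠ none := fun e => hpS (e ▸ hp)
        have e2 : p ≠ q.1 := fun e => hpS (e ▸ hqS)
        simp [e1, e2]
      have hn2 : ∀ u : GolayPt → ℤ, (∀ p, u p ^ 2 = if p = none ∨ p = q.1 then 16 else 0) → sqNorm u = 32 := by
        intro u hu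
        rw [sqNorm, Finset.sum_congr rfl fun p _ => hu p, Finset.sum_ite, Finset.sum_const_zero, add_zero,
          Finset.sum_const]
        rw [show (Finset.univ.filter fun p => p = none ∨ p = q.1) = {none, q.1} by ext; simp,
          Finset.card_pair (hnq q).symm]
        norm_num
      refine ⟨hroot _ (hn2 _ fun p => ?_) fun p hp => (h0 p hp).1, hroot _ (hn2 _ fun p => ?_) fun p hp => (h0 p hp).2⟩
      · simp only [hv, stdA]; split_ifs <;> norm_num
      · simp only [AddSubgroup.coe_sub, Pi.sub_apply, hv, stdA, eightAt_apply]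
        by_cases e1 : p = none <;> by_cases e2 : p = q.1 <;> simp [e1, e2, hnq q, (hnq q).symm]
    have hxs : ∀ q, ∀ p, (x : GolayPt → ℤ) p = ((g • v q : leechLattice) : GolayPt → ℤ) p +
        ((g • (v q - eightAt q.1) : leechLattice) : GolayPt → ℤ) p := fun q p => by
      rw [hx, hdiff q, smul_add']; rfl
    set T := Finset.univ.filter fun p => (x : GolayPt → ℤ) p ≠ 0 with hT
    push Not at h8
    have hn : sqNorm (x : GolayPt → ℤ) = 64 := by rw [hx, sqNorm_smul, sqNorm_eightAt]
    have key : ∀ q, T.card = 4 ∧ (Finset.univ.filter fun p => ((g • v q : leechLattice) : GolayPt → ℤ) p ≠ 0) ∈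
        T.powersetCard 2 ∧ ∀ p, ((g • v q : leechLattice) : GolayPt → ℤ) p ≠ 0 →
          ((g • v q : leechLattice) : GolayPt → ℤ) p = (x : GolayPt → ℤ) p := by
      intro q
      obtain ⟨⟨i, j, hij, hi, hj, h0⟩, k, l, hkl, hk, hl, h0'⟩ := hA q
      have hs := hxs q
      set A := ((g • v q : leechLattice) : GolayPt → ℤ)
      set B := ((g • (v q - eightAt q.1) : leechLattice) : GolayPt → ℤ)
      have hAB : ∀ p, A p ^ 2 ≤ 16 ∧ B p ^ 2 ≤ 16 := fun p => by
        refine ⟨?_, ?_⟩
        · by_cases e : p = i
          · rcases hi with h | h <;> rw [e, h] <;> norm_num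
          by_cases e' : p = j
          · rcases hj with h | h <;> rw [e', h] <;> norm_num
          rw [h0 p e e']; norm_num
        · by_cases e : p = k
          · rcases hk with h | h <;> rw [e, h] <;> norm_num
          by_cases e' : p = l
          · rcases hl with h | h <;> rw [e', h] <;> norm_num
          rw [h0' p e e']; norm_num
      have hv4 : ∀ p, (x : GolayPt → ℤ) p ^ 2 ≤ 16 ∧ (A p ≠ 0 → B p ≠ 0 → (x : GolayPt → ℤ) p = 0) := by
        intro p
        have hA' : A p = 0 ∨ A p = 4 ∨ A p = -4 := by
          by_cases e : p = i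
          · rw [e]; exact Or.inr hi
          by_cases e' : p = j
          · rw [e']; exact Or.inr hj
          exact Or.inl (h0 p e e')
        have hB' : B p = 0 ∨ B p = 4 ∨ B p = -4 := by
          by_cases e : p = k
          · rw [e]; exact Or.inr hk
          by_cases e' : p = l
          · rw [e']; exact Or.inr hl
          exact Or.inl (h0' p e e')
        have h88 := h8 p
        rcases hA' with a | a | a <;> rcases hB' with b | b | b <;> rw [hs p, a, b] at h88 ⊢ <;> first | exact absurd rfl h88.1 | exact absurd rfl h88.2 | norm_num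
      have hsub : T ⊆ {i, j, k, l} := by
        intro p hp
        simp only [Finset.mem_insert, Finset.mem_singleton]
        by_contra hno
        push Not at hno
        rw [hT, Finset.mem_filter, hs p, h0 p hno.1 hno.2.1, h0' p hno.2.2.1 hno.2.2.2] at hp
        exact hp.2 (add_zero 0)
      have hsum : (64 : ℤ) ≤ 16 * T.card := by
        calc (64 : ℤ) = ∑ p, (x : GolayPt → ℤ) p ^ 2 := hn.symm
          _ = ∑ p ∈ T, (x : GolayPt → ℤ) p ^ 2 := (Finset.sum_filter_of_ne (p := fun p => (x : GolayPt → ℤ) p ≠ 0) fun p _ hne => fun e => hne (by rw [e]; norm_num)).symm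
          _ ≤ ∑ p ∈ T, (16 : ℤ) := Finset.sum_le_sum fun p _ => (hv4 p).1
          _ = 16 * T.card := by rw [Finset.sum_const, nsmul_eq_mul, mul_comm]
      have h4 : T.card = 4 := by
        have h := (Finset.card_le_card hsub).trans Finset.card_le_four
        omega
      have hdisj : ∀ p, A p ≠ 0 → B p = 0 := by
        intro p hA0
        by_contra hB0
        have : p ∉ T := by rw [hT, Finset.mem_filter]; exact fun h => h.2 ((hv4 p).2 hA0 hB0)
        have hp' : p ∈ ({i, j, k, l} : Finset GolayPt) := by
          simp only [Finset.mem_insert, Finset.mem_singleton]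
          by_contra hno
          push Not at hno
          exact hA0 (h0 p hno.1 hno.2.1)
        have := Finset.card_lt_card (Finset.ssubset_iff_of_subset hsub |>.2 ⟨p, hp', this⟩)
        have := this.trans_le Finset.card_le_four
        omega
      refine ⟨h4, Finset.mem_powersetCard.2 ⟨fun p hp => ?_, ?_⟩, fun p hp => by rw [hs p, hdisj p hp, add_zero]⟩
      · rw [Finset.mem_filter] at hp
        rw [hT, Finset.mem_filter, hs p, hdisj p hp.2, add_zero]
        exact hp
      · rw [show (Finset.univ.filter fun p => A p ≠ 0) = {i, j} from ?_, Finset.card_pair hij]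
        ext p
        simp only [Finset.mem_filter, Finset.mem_univ, true_and, Finset.mem_insert, Finset.mem_singleton]
        constructor
        · intro hp; by_contra hno; push Not at hno; exact hp (h0 p hno.1 hno.2)
        · rintro (e | e) <;> rw [e]
          · rcases hi with h | h <;> rw [h] <;> norm_num
          · rcases hj with h | h <;> rw [h] <;> norm_num
    have hinj : Function.Injective fun q => Finset.univ.filter fun p => ((g • v q : leechLattice) : GolayPt → ℤ) p ≠ 0 := by
      intro q q' e
      have : g • v q = g • v q' := Subtype.ext (funext fun p => by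
        have hiff := Finset.ext_iff.1 e p
        simp only [Finset.mem_filter, Finset.mem_univ, true_and] at hiff
        by_cases h0 : ((g • v q : leechLattice) : GolayPt → ℤ) p = 0
        · rw [h0, (not_not.1 fun h => hiff.2 h h0)]
        · rw [(key q).2.2 p h0, (key q').2.2 p (hiff.1 h0)])
      have e' := congrFun (congrArg Subtype.val ((smul_left_cancel g this))) q.1
      simp only [hv, stdA] at e'
      by_contra hne
      have h1 : q.1 ≠ q'.1 := fun h => hne (Subtype.ext h)
      simp [h1, hnq q] at e'
    have hc : Fintype.card {q // q ∈ S.erase none} ≤ (T.powersetCard 2).card := by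
      rw [← Fintype.card_coe (T.powersetCard 2)]
      exact Fintype.card_le_of_injective (fun q => ⟨_, (key q).2.1⟩) fun a b e => hinj (Subtype.mk.inj e)
    obtain ⟨q0, hq0⟩ : ∃ q, q ∈ S.erase none := Finset.card_pos.1 (by
      rw [Finset.card_erase_of_mem hp, hS, show (support₂ (wD : GolayPt → ZMod 2)).card = 12 from
        words_ok.1.2.2.2.2.1]; norm_num)
    rw [Fintype.card_coe, Finset.card_erase_of_mem hp, hS, show (support₂ (wD : GolayPt → ZMod 2)).card = 12 from
      words_ok.1.2.2.2.2.1, Finset.card_powersetCard, (key ⟨q0, hq0⟩).1] at hc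
    exact absurd hc (by decide)

/-- No element of order seven commutes with the sign change on the dodecad. -/
theorem dod_no_seven {g : Co0} (h : g * signAut wD = signAut wD * g) (h7 : g ^ 7 = 1) : g = 1 := by
  obtain ⟨⟨w, σ⟩, rfl⟩ := monomial_of_comm h
  have hσfix : ∀ p, (wD : GolayPt → ZMod 2) ((σ : Equiv.Perm GolayPt)⁻¹ p) = (wD : GolayPt → ZMod 2) p := by
    rw [monoAut, mul_assoc, permHom_mul_signAut, ← mul_assoc, ← mul_assoc] at h
    have h' := mul_right_cancel h
    rw [signAut_mul, signAut_mul, signAut_eq_monoAut, signAut_eq_monoAut] at h'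
    have e := congrArg Prod.fst (monoAut_injective h')
    intro p
    have := congrFun (congrArg Subtype.val e) p
    simp only [Submodule.coe_add, Pi.add_apply] at this
    rw [add_comm ((wD : GolayPt → ZMod 2) p)] at this
    exact add_left_cancel this
  let ψ : stabilizer M24 (support₂ (wD : GolayPt → ZMod 2)) →* M24 := Subgroup.subtype _
  have hσS : σ ∈ stabilizer M24 (support₂ (wD : GolayPt → ZMod 2)) := by
    refine mem_stabilizer_iff.2 (Finset.eq_of_subset_of_card_le (fun p hp => ?_) (Finset.card_smul_finset _ _).ge)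
    obtain ⟨q, hq, rfl⟩ := Finset.mem_smul_finset.1 hp
    rw [mem_sup] at hq ⊢
    rw [← hσfix]
    show (wD : GolayPt → ZMod 2) ((σ : Equiv.Perm GolayPt)⁻¹ ((σ : Equiv.Perm GolayPt) q)) = 1
    rw [Equiv.Perm.inv_def, Equiv.symm_apply_apply, hq]
  have hpow : ∀ n : ℕ, ∃ u, monoAut (w, σ) ^ n = monoAut (u, σ ^ n) := by
    intro n
    induction n with
    | zero => exact ⟨0, by rw [pow_zero, pow_zero, monoAut, signAut_zero, map_one, one_mul]⟩
    | succ n ih => obtain ⟨u, hu⟩ := ih; rw [pow_succ, hu, monoAut_mul, ← pow_succ]; exact ⟨_, rfl⟩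
  have h1 : ∀ {u : golayCode} {τ : M24}, monoAut (u, τ) = 1 → τ = 1 := fun {u τ} e =>
    congrArg Prod.snd (monoAut_injective (e.trans (show (1 : Co0) = monoAut (0, 1) by
      rw [monoAut, signAut_zero, map_one, one_mul])))
  obtain ⟨u, hu⟩ := hpow 7
  have hσ7 : σ ^ 7 = 1 := h1 (hu ▸ h7)
  have hσ1 : σ = 1 := by
    have hd := orderOf_dvd_natCard (⟨σ, hσS⟩ : stabilizer M24 (support₂ (wD : GolayPt → ZMod 2)))
    rw [card_dodecad_stabilizer ⟨⟨_, wD.2, rfl⟩, words_ok.1.2.2.2.2.1⟩, Subgroup.orderOf_mk] at hd
    exact orderOf_eq_one_iff.1 (Nat.eq_one_of_dvd_coprimes (by norm_num : Nat.Coprime 7 95040)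
      (orderOf_dvd_of_pow_eq_one hσ7) hd)
  subst hσ1
  rw [monoAut, map_one, mul_one] at h7 ⊢
  rw [show signAut w ^ 7 = signAut w by
    rw [show (7 : ℕ) = 2 * 3 + 1 from rfl, pow_succ, pow_mul, pow_two]
    nth_rewrite 2 [← signAut_inv w]
    rw [mul_inv_cancel, one_pow, one_mul]] at h7
  exact h7

end CfsgLib.Co1Comp
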