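import Cfsg.Agent.Co1Comp.Component
import Cfsg.Agent.Invol.IsolatedApps
import Cfsg.Agent.Leech.Simple
import Cfsg.Prelude.Def_Local
import Cfsg.Prelude.Def_KGroupFacts

/-!
A standard subgroup isomorphic to the automorphism group of the lattice with small centraliser is normal.
-/

set_option autoImplicit false
set_option maxRecDepth 100000
set_option linter.style.haveILetI false
set_option linter.unusedSectionVars false

namespace CfsgLib.Co1Comp

open Cfsg CfsgLib CfsgLib.Leech Subgroup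
open scoped commutatorElement
open CfsgLib.OutConway.One (pr pr_eq pr_eq_one pr_surj comm_of_odd neg_comm mem_center_iff')

attribute [local irreducible] CfsgLib.Leech.shortVecs CfsgLib.Leech.halfTable CfsgLib.Leech.quarterTable

theorem perfect_Co0 : commutator Co0 = ⊤ := by
  refine (normal_subgroup_co0 (commutator Co0)).resolve_left fun h => ?_
  have hs : IsSimpleGroup (Co0 ⧸ Subgroup.center Co0) := isCo1_quotient.1
  have hc : ∀ x y : Co0 ⧸ Subgroup.center Co0, x * y = y * x := fun x y => by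
    obtain ⟨a, rfl⟩ := QuotientGroup.mk'_surjective _ x
    obtain ⟨b, rfl⟩ := QuotientGroup.mk'_surjective _ y
    rw [← map_mul, ← map_mul]
    refine (QuotientGroup.eq).mpr (h ?_)
    rw [commutator_def]
    have hm := Subgroup.commutator_mem_commutator (Subgroup.mem_top b⁻¹) (Subgroup.mem_top a⁻¹)
    simpa [commutatorElement_def, mul_assoc] using hm
  letI : CommGroup (Co0 ⧸ Subgroup.center Co0) :=
    { (inferInstance : Group (Co0 ⧸ Subgroup.center Co0)) with mul_comm := hc }
  have hp := IsSimpleGroup.prime_card (α := Co0 ⧸ Subgroup.center Co0)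
  rw [isCo1_quotient.2] at hp
  norm_num at hp

theorem exists_inner_lift (φ : MulAut Co0) : ∃ a : Co0, ∀ x, φ x = a * x * a⁻¹ := by
  classical
  have hmap : (center Co0).map (φ : Co0 →* Co0) = center Co0 := by
    ext x
    refine ⟨?_, fun hx => ⟨φ.symm x, Subgroup.mem_center_iff.2 fun y => φ.injective ?_, φ.apply_symm_apply x⟩⟩
    · rintro ⟨y, hy, rfl⟩
      refine Subgroup.mem_center_iff.2 fun w => ?_
      obtain ⟨w, rfl⟩ := φ.surjective w
      show φ w * φ y = φ y * φ w
      rw [← map_mul, ← map_mul, Subgroup.mem_center_iff.1 hy w]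
    · rw [map_mul, map_mul, φ.apply_symm_apply]
      exact Subgroup.mem_center_iff.1 hx _
  set ψ : MulAut Spor.Co1 := QuotientGroup.congr (center Co0) (center Co0) φ hmap
  have hinn : ψ ∈ Inn Spor.Co1 := by
    have hs : Subsingleton (Out Spor.Co1) := (Nat.card_eq_one_iff_unique.1 OutConway.One.card_out).1
    rw [← QuotientGroup.eq_one_iff]
    exact hs.elim _ _
  obtain ⟨q, hq⟩ := hinn
  obtain ⟨a, rfl⟩ := pr_surj q
  refine ⟨a, ?_⟩
  have hmod : ∀ x, pr (φ x) = pr (a * x * a⁻¹) := fun x => by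
    have h := congrArg (fun e : MulAut Spor.Co1 => e (pr x)) hq
    simp only [MulAut.conj_apply] at h
    rw [map_mul, map_mul, map_inv, h]
    rfl
  have hle : commutator Co0 ≤ (φ : Co0 →* Co0).eqLocus (MulAut.conj a : Co0 →* Co0) := by
    rw [commutator_def, Subgroup.commutator_le]
    intro x _ y _
    show φ ⁅x, y⁆ = a * ⁅x, y⁆ * a⁻¹
    have hz : ∀ u v : Co0, pr u = pr v → ∃ n, n ∈ center Co0 ∧ u = n * v := fun u v h =>
      (pr_eq.1 h).elim (fun e => ⟨1, one_mem _, by rw [e, one_mul]⟩)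
        fun e => ⟨negAut, Leech.negAut_central, e⟩
    obtain ⟨n, hn, ex⟩ := hz _ _ (hmod x)
    obtain ⟨m, hm, ey⟩ := hz _ _ (hmod y)
    have key : ∀ {n m u v : Co0}, n ∈ center Co0 → m ∈ center Co0 → ⁅n * u, m * v⁆ = ⁅u, v⁆ := by
      intro n m u v hn hm
      have h1 := Subgroup.mem_center_iff.1 hn
      have h2 := Subgroup.mem_center_iff.1 hm
      simp only [commutatorElement_def, mul_inv_rev]
      calc n * u * (m * v) * (u⁻¹ * n⁻¹) * (v⁻¹ * m⁻¹)
          = n * (u * m) * v * u⁻¹ * (n⁻¹ * v⁻¹) * m⁻¹ := by simp only [mul_assoc]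
        _ = n * (m * u) * v * u⁻¹ * (v⁻¹ * n⁻¹) * m⁻¹ := by
            rw [h2 u, show n⁻¹ * v⁻¹ = v⁻¹ * n⁻¹ by rw [← mul_inv_rev, ← mul_inv_rev, h1 v]]
        _ = (n * m) * (u * v * u⁻¹ * v⁻¹) * (m * n)⁻¹ := by rw [mul_inv_rev]; simp only [mul_assoc]
        _ = u * v * u⁻¹ * v⁻¹ := by
            rw [h2 n, ← Subgroup.mem_center_iff.1 (mul_mem hm hn), mul_inv_cancel_right]
    rw [map_commutatorElement, ex, ey, key hn hm]
    exact (map_commutatorElement (MulAut.conj a : Co0 →* Co0) x y).symm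
  rw [perfect_Co0] at hle
  exact fun x => hle (Subgroup.mem_top x)

variable {G : Type*} [Group G] [Finite G]

theorem standard_normal (hV : SevenHyp) (hO : Cfsg.oddCore G = ⊥) (A : Subgroup G)
    (hA : Cfsg.IsStandardSubgroup A) (hAX : Nonempty (↥A ≃* ↥Cfsg.Co0))
    (hR : ∀ R : Sylow 2 ↥(centralizer (A : Set G)), IsCyclic ↥(R : Subgroup ↥(centralizer (A : Set G)))) :
    A.Normal := by
  classical
  obtain ⟨v₀, a₀, R⟩ := exists_reps hV
  obtain ⟨e⟩ := hAX
  set f : Co0 →* G := A.subtype.comp e.symm.toMonoidHom with hf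
  have hfA : ∀ x, f x ∈ A := fun x => (e.symm x).2
  have hrange : f.range = A := by
    ext g
    exact ⟨fun ⟨x, hx⟩ => hx ▸ hfA x, fun hg => ⟨e ⟨g, hg⟩, by simp [hf]⟩⟩
  have hinj : Function.Injective f := A.subtype_injective.comp e.symm.injective
  have hC : cT f = centralizer (A : Set G) := by rw [cT, hrange]
  set C := centralizer (A : Set G) with hCdef
  set z := f negAut with hz
  have hzC : z ∈ C := hC ▸ z_mem_cT
  have hzz : z * z = 1 := z_sq
  have hz1 : z ≠ 1 := fun h => Leech.negAut_ne_one (hinj (h.trans (map_one f).symm))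
  have hcomm : ∀ c ∈ C, c * z = z * c := fun c hc => (mem_centralizer_iff.1 hc _ (hfA negAut)).symm
  have huniq : ∀ c ∈ cT f, c * c = 1 → c = 1 ∨ c = z := by
    intro c hc hcc
    rw [hC] at hc
    by_cases hc1 : c = 1
    · exact Or.inl hc1
    refine Or.inr ?_
    set H := closure ({⟨z, hzC⟩, ⟨c, hc⟩} : Set C) with hH
    have hab : ∀ x ∈ ({⟨z, hzC⟩, ⟨c, hc⟩} : Set C), ∀ y ∈ ({⟨z, hzC⟩, ⟨c, hc⟩} : Set C), x * y = y * x := by
      rintro x (rfl | rfl) y (rfl | rfl) <;> first | rfl | exact Subtype.ext (hcomm c hc) | exact Subtype.ext (hcomm c hc).symm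
    letI : CommGroup H := closureCommGroupOfComm hab
    have hp : IsPGroup 2 H := by
      intro x
      refine ⟨1, ?_⟩
      rw [pow_one]
      refine Subtype.ext ?_
      obtain ⟨x, hx⟩ := x
      show x ^ 2 = 1
      induction hx using Subgroup.closure_induction with
      | mem y hy => rcases hy with rfl | rfl <;> (refine Subtype.ext ?_; rw [pow_two]; first | exact hzz | exact hcc)
      | one => exact one_pow 2
      | mul y y' hy hy' iy iy' =>
        rw [(show Commute y y' from congrArg Subtype.val (mul_comm (⟨y, hy⟩ : H) ⟨y', hy'⟩)).mul_pow, iy, iy', one_mul]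
      | inv y _ iy => rw [inv_pow, iy, inv_one]
    obtain ⟨S, hS⟩ := hp.exists_le_sylow
    haveI := hR S
    haveI := Fintype.ofFinite (S : Subgroup C)
    have hcard := IsCyclic.card_pow_eq_one_le (α := (S : Subgroup C)) (n := 2) (by norm_num)
    by_contra hne
    let a : (S : Subgroup C) := ⟨⟨z, hzC⟩, hS (subset_closure (Or.inl rfl))⟩
    let b : (S : Subgroup C) := ⟨⟨c, hc⟩, hS (subset_closure (Or.inr rfl))⟩
    have h3 : ({1, a, b} : Finset (S : Subgroup C)).card = 3 := by
      refine Finset.card_eq_three.2 ⟨1, a, b, ?_, ?_, ?_, rfl⟩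
      · exact fun h => hz1 (congrArg (fun t : (S : Subgroup C) => ((t : C) : G)) h).symm
      · exact fun h => hc1 (congrArg (fun t : (S : Subgroup C) => ((t : C) : G)) h).symm
      · exact fun h => hne (congrArg (fun t : (S : Subgroup C) => ((t : C) : G)) h).symm
    have hle : ({1, a, b} : Finset (S : Subgroup C)).card ≤ 2 := (Finset.card_le_card fun t ht => ?_).trans hcard
    · omega
    · simp only [Finset.mem_insert, Finset.mem_singleton] at ht
      refine Finset.mem_filter.2 ⟨Finset.mem_univ _, ?_⟩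
      rcases ht with rfl | rfl | rfl
      · exact one_pow 2
      · exact Subtype.ext (Subtype.ext (by rw [pow_two]; exact hzz))
      · exact Subtype.ext (Subtype.ext (by rw [pow_two]; exact hcc))
  have hN : ∀ g, g ∈ normalizer (A : Set G) → ∃ a, ∃ c ∈ cT f, g = f a * c := by
    intro g hg
    let φ : MulAut Co0 := (e.symm.trans (MulEquiv.ofBijective
      ({ toFun := fun x => ⟨g * x * g⁻¹, (mem_normalizer_iff.1 hg x).1 x.2⟩
         map_one' := Subtype.ext (by simp)
         map_mul' := fun x y => Subtype.ext (by simp [mul_assoc]) } : A →* A)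
      ⟨fun x y h => Subtype.ext (mul_left_cancel (mul_right_cancel (congrArg Subtype.val h))),
        fun y => ⟨⟨g⁻¹ * y * g, (mem_normalizer_iff.1 hg _).2 (by simp [mul_assoc])⟩,
          Subtype.ext (show g * (g⁻¹ * y * g) * g⁻¹ = (y : G) by group)⟩⟩)).trans e
    obtain ⟨a, ha⟩ := exists_inner_lift φ
    refine ⟨a, (f a)⁻¹ * g, ?_, (mul_inv_cancel_left _ _).symm⟩
    rw [hC, mem_centralizer_iff]
    intro y hy
    obtain ⟨x, rfl⟩ : ∃ x, f x = y := ⟨e ⟨y, hy⟩, by simp [hf]⟩
    have hx : g * f x * g⁻¹ = f (a * x * a⁻¹) := by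
      rw [← ha]
      simp [φ, hf]
      rfl
    rw [map_mul, map_mul, map_inv, mul_inv_eq_iff_eq_mul] at hx
    calc f x * ((f a)⁻¹ * g) = (f a)⁻¹ * (f a * f x * (f a)⁻¹ * g) := by group
      _ = (f a)⁻¹ * g * f x := by rw [← hx]; group
  have hcz : ∀ g, g * z = z * g → g ∈ normalizer (A : Set G) := by
    intro g hg
    by_contra hgN
    rw [hA.2.2.2] at hgN
    have hodd := hA.2.1.2 g hgN
    have hm : z ∈ C ⊓ C.map (MulAut.conj g).toMonoidHom := ⟨hzC, z, hzC, mul_inv_eq_iff_eq_mul.2 hg⟩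
    have h2 := _root_.orderOf_dvd_natCard (⟨z, hm⟩ : ↥(C ⊓ C.map (MulAut.conj g).toMonoidHom))
    rw [Subgroup.orderOf_mk, orderOf_eq_prime (hp := ⟨Nat.prime_two⟩) (by rw [pow_two, hzz]) hz1] at h2
    exact (Nat.not_even_iff_odd.2 hodd) (even_iff_two_dvd.2 h2)
  have X : Ctx f := ⟨hinj, huniq, fun g hg => hN g (hcz g hg)⟩
  have hiso : Cfsg.IsIsolatedInvolution z :=
    ⟨orderOf_eq_prime (hp := ⟨Nat.prime_two⟩) (by rw [pow_two, hzz]) hz1, fun g hg => X.isolated R hg.eq⟩
  refine normalizer_eq_top_iff.1 ((eq_top_iff' _).2 fun g => hcz g ?_)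
  have h := IsoApps.comm_mem_oddCore hiso g
  rw [hO, mem_bot] at h
  have e1 : z * g = g * z := by
    have := congrArg (fun t => t * g * z) h
    simpa [mul_assoc] using this
  exact e1.symm

end CfsgLib.Co1Comp
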